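import Mathlib
import Groth.Prelude.Def_Grpd

/-!
# Points of a groupoid scheme
-/

set_option autoImplicit false
set_option backward.isDefEq.respectTransparency false

universe u

open CategoryTheory CategoryTheory.Limits AlgebraicGeometry

noncomputable section

namespace Groth.Agent.Split

variable {S : Scheme.{u}} (G : Grpd.GroupoidScheme S)

/-- Objects over `S`. -/
abbrev oU : Over S := Over.mk G.pU

/-- Arrows over `S`. -/
abbrev oR : Over S := Over.mk G.pR

/-- Source over `S`. -/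
def os : oR G ⟶ oU G := Over.homMk G.s G.s_over

/-- Target over `S`. -/
def ot : oR G ⟶ oU G := Over.homMk G.t G.t_over

/-- Identity over `S`. -/
def oe : oU G ⟶ oR G := Over.homMk G.e (by
  show G.e ≫ G.pR = G.pU
  rw [← G.s_over, ← Category.assoc, G.e_s, Category.id_comp])

/-- Inverse over `S`. -/
def oi : oR G ⟶ oR G := Over.homMk G.i (by
  show G.i ≫ G.pR = G.pR
  conv_lhs => rw [← G.s_over, ← Category.assoc, G.i_s]
  exact G.t_over)

@[simp] theorem os_left : (os G).left = G.s := rfl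

@[simp] theorem ot_left : (ot G).left = G.t := rfl

@[simp] theorem oe_left : (oe G).left = G.e := rfl

@[simp] theorem oi_left : (oi G).left = G.i := rfl

@[reassoc (attr := simp)]
theorem oe_os : oe G ≫ os G = 𝟙 (oU G) := Over.OverMorphism.ext G.e_s

@[reassoc (attr := simp)]
theorem oe_ot : oe G ≫ ot G = 𝟙 (oU G) := Over.OverMorphism.ext G.e_t

@[reassoc (attr := simp)]
theorem oi_os : oi G ≫ os G = ot G := Over.OverMorphism.ext G.i_s

@[reassoc (attr := simp)]
theorem oi_ot : oi G ≫ ot G = os G := Over.OverMorphism.ext G.i_t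

variable {G} {T : Over S}

theorem left_cond {α β : T ⟶ oR G} (h : α ≫ os G = β ≫ ot G) : α.left ≫ G.s = β.left ≫ G.t :=
  congrArg Over.Hom.left h

/-- Composition of points. -/
def cmp (α β : T ⟶ oR G) (h : α ≫ os G = β ≫ ot G) : T ⟶ oR G :=
  Over.homMk (pullback.lift α.left β.left (left_cond h) ≫ G.c) (by
    show (pullback.lift α.left β.left (left_cond h) ≫ G.c) ≫ G.pR = T.hom
    rw [← G.s_over, ← Category.assoc, G.comp_s, Category.assoc, G.s_over]
    exact Over.w β)

theorem cmp_congr {α α' β β' : T ⟶ oR G} (ha : α = α') (hb : β = β') (h : α ≫ os G = β ≫ ot G) :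
    cmp α β h = cmp α' β' (ha ▸ hb ▸ h) := by subst ha; subst hb; rfl

@[reassoc]
theorem cmp_os (α β : T ⟶ oR G) (h : α ≫ os G = β ≫ ot G) : cmp α β h ≫ os G = β ≫ os G :=
  Over.OverMorphism.ext (G.comp_s α.left β.left (left_cond h))

@[reassoc]
theorem cmp_ot (α β : T ⟶ oR G) (h : α ≫ os G = β ≫ ot G) : cmp α β h ≫ ot G = α ≫ ot G :=
  Over.OverMorphism.ext (G.comp_t α.left β.left (left_cond h))

theorem cmp_assoc (α β δ : T ⟶ oR G) (h₁ : α ≫ os G = β ≫ ot G) (h₂ : β ≫ os G = δ ≫ ot G) :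
    cmp (cmp α β h₁) δ ((cmp_os α β h₁).trans h₂) = cmp α (cmp β δ h₂) (h₁.trans (cmp_ot β δ h₂).symm) :=
  Over.OverMorphism.ext (G.assoc α.left β.left δ.left (left_cond h₁) (left_cond h₂))

theorem cmp_oe (α : T ⟶ oR G) :
    cmp α (α ≫ os G ≫ oe G) (by simp only [Category.assoc, oe_ot, Category.comp_id]) = α :=
  Over.OverMorphism.ext (G.comp_e α.left)

theorem oe_cmp (α : T ⟶ oR G) :
    cmp (α ≫ ot G ≫ oe G) α (by simp only [Category.assoc, oe_os, Category.comp_id]) = α :=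
  Over.OverMorphism.ext (G.e_comp α.left)

theorem cmp_oi (α : T ⟶ oR G) :
    cmp α (α ≫ oi G) (by rw [Category.assoc, oi_ot]) = α ≫ ot G ≫ oe G :=
  Over.OverMorphism.ext (G.comp_i α.left)

theorem oi_cmp (α : T ⟶ oR G) :
    cmp (α ≫ oi G) α (by rw [Category.assoc, oi_os]) = α ≫ os G ≫ oe G :=
  Over.OverMorphism.ext (G.i_comp α.left)

theorem comp_cmp {T' : Over S} (d : T' ⟶ T) (α β : T ⟶ oR G) (h : α ≫ os G = β ≫ ot G) :
    d ≫ cmp α β h = cmp (d ≫ α) (d ≫ β) (by rw [Category.assoc, h, Category.assoc]) := by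
  apply Over.OverMorphism.ext
  show d.left ≫ pullback.lift α.left β.left _ ≫ G.c = pullback.lift (d.left ≫ α.left) (d.left ≫ β.left) _ ≫ G.c
  rw [← Category.assoc]
  congr 1
  apply pullback.hom_ext <;> simp

/-- Right multiplication by an identity. -/
theorem cmp_id_right (α : T ⟶ oR G) (x : T ⟶ oU G) (hx : α ≫ os G = x) :
    cmp α (x ≫ oe G) (by simp [hx]) = α := by
  subst hx
  exact (cmp_congr rfl (Category.assoc _ _ _) _).trans (cmp_oe α)

/-- Left multiplication by an identity. -/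
theorem cmp_id_left (α : T ⟶ oR G) (x : T ⟶ oU G) (hx : α ≫ ot G = x) :
    cmp (x ≫ oe G) α (by simp [hx]) = α := by
  subst hx
  exact (cmp_congr (Category.assoc _ _ _) rfl _).trans (oe_cmp α)

theorem id_oi (x : T ⟶ oU G) : (x ≫ oe G) ≫ oi G = x ≫ oe G := by
  have h := cmp_id_right ((x ≫ oe G) ≫ oi G) x (by simp)
  rw [← h, oi_cmp]
  simp

theorem cmp_cancel_right (r ρ : T ⟶ oR G) (h : r ≫ os G = ρ ≫ ot G) :
    cmp (cmp r ρ h) (ρ ≫ oi G) (by rw [cmp_os, Category.assoc, oi_ot]) = r := by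
  rw [cmp_assoc r ρ (ρ ≫ oi G) h (by rw [Category.assoc, oi_ot])]
  refine (cmp_congr rfl ((cmp_oi ρ).trans (Category.assoc _ _ _).symm) _).trans ?_
  exact cmp_id_right r _ h

theorem cmp_cancel_right' (r ρ : T ⟶ oR G) (h : r ≫ os G = ρ ≫ os G) :
    cmp (cmp r (ρ ≫ oi G) (by rw [Category.assoc, oi_ot, h])) ρ (by rw [cmp_os, Category.assoc, oi_os]) = r := by
  rw [cmp_assoc r (ρ ≫ oi G) ρ (by rw [Category.assoc, oi_ot, h]) (by rw [Category.assoc, oi_os])]
  refine (cmp_congr rfl ((oi_cmp ρ).trans (Category.assoc _ _ _).symm) _).trans ?_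
  exact cmp_id_right r _ h

end Groth.Agent.Split
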