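import Mathlib
import Groth.Agent.SplitLib.Base
import Groth.Agent.AlgSpLib.RepDescent

/-!
# Finite open families of arrows of a groupoid scheme

For a groupoid scheme and `g : V ⟶ U`, a family is an open part `W` of `R ×_{s,U} V` finite over `V`. An arrow
`ρ` from `g a` to `g b` identifies the families at `a` and `b` when translation by `ρ` carries one into the other;
this happens on a clopen locus.
-/

set_option autoImplicit false
set_option backward.isDefEq.respectTransparency false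
set_option maxHeartbeats 800000

universe u

open CategoryTheory CategoryTheory.Limits AlgebraicGeometry

noncomputable section

namespace Groth.Agent.Split

variable {S : Scheme.{u}} (G : Grpd.GroupoidScheme S)

/-- A finite open family of arrows. -/
structure Fam where
  /-- the parameters -/
  V : Over S
  /-- the map to objects -/
  g : V ⟶ oU G
  /-- the family -/
  W : (pullback G.s g.left).Opens
  finite_W : IsFinite (W.ι ≫ pullback.snd G.s g.left)

variable {G} (D : Fam G)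

/-- The arrows starting at a parameter. -/
def Fam.Z : Over S := Over.mk (pullback.fst G.s D.g.left ≫ G.pR)

/-- The arrow. -/
def Fam.zr : D.Z ⟶ oR G := Over.homMk (pullback.fst G.s D.g.left) rfl

/-- The parameter. -/
def Fam.zp : D.Z ⟶ D.V := Over.homMk (pullback.snd G.s D.g.left) (by
  show pullback.snd G.s D.g.left ≫ D.V.hom = pullback.fst G.s D.g.left ≫ G.pR
  rw [← Over.w D.g, ← pullback.condition_assoc, ← G.s_over]
  rfl)

theorem Fam.isPullback_zr : IsPullback D.zr D.zp (os G) D.g :=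
  AlgSpLib.isPullback_over (IsPullback.of_hasPullback G.s D.g.left)

/-- The family as an object over `S`. -/
def Fam.Wo : Over S := Over.mk (D.W.ι ≫ D.Z.hom)

/-- The inclusion of the family. -/
def Fam.j : D.Wo ⟶ D.Z := Over.homMk D.W.ι rfl

/-- The arrow of a point of the family. -/
def Fam.m : D.Wo ⟶ oR G := D.j ≫ D.zr

/-- The parameter of a point of the family. -/
def Fam.p : D.Wo ⟶ D.V := D.j ≫ D.zp

instance : IsOpenImmersion D.j.left := inferInstanceAs (IsOpenImmersion D.W.ι)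

instance : Mono D.j := Over.mono_of_mono_left D.j

instance : IsFinite D.p.left := D.finite_W

instance [Flat G.s] : Flat D.zp.left := inferInstanceAs (Flat (pullback.snd G.s D.g.left))

instance [LocallyOfFinitePresentation G.s] : LocallyOfFinitePresentation D.zp.left :=
  inferInstanceAs (LocallyOfFinitePresentation (pullback.snd G.s D.g.left))

instance [IsSeparated G.s] : IsSeparated D.zp.left :=
  inferInstanceAs (IsSeparated (pullback.snd G.s D.g.left))

instance [Flat G.s] : Flat D.p.left := inferInstanceAs (Flat (D.j.left ≫ D.zp.left))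

instance [LocallyOfFinitePresentation G.s] : LocallyOfFinitePresentation D.p.left :=
  inferInstanceAs (LocallyOfFinitePresentation (D.j.left ≫ D.zp.left))

theorem Fam.m_os : D.m ≫ os G = D.p ≫ D.g := by
  rw [Fam.m, Fam.p, Category.assoc, Category.assoc, D.isPullback_zr.w]

/-- The pair `(r, a)` lies in the family. -/
def Fam.InW {T : Over S} (r : T ⟶ oR G) (a : T ⟶ D.V) : Prop :=
  ∃ l : T ⟶ D.Wo, l ≫ D.m = r ∧ l ≫ D.p = a

theorem Fam.hom_ext {T : Over S} {l l' : T ⟶ D.Z} (h₁ : l ≫ D.zr = l' ≫ D.zr) (h₂ : l ≫ D.zp = l' ≫ D.zp) :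
    l = l' :=
  D.isPullback_zr.hom_ext h₁ h₂

theorem Fam.hom_ext_W {T : Over S} {l l' : T ⟶ D.Wo} (h₁ : l ≫ D.m = l' ≫ D.m) (h₂ : l ≫ D.p = l' ≫ D.p) :
    l = l' :=
  (cancel_mono D.j).mp (D.hom_ext (by rw [Category.assoc, Category.assoc]; exact h₁)
    (by rw [Category.assoc, Category.assoc]; exact h₂))

/-- Membership in the family is a condition on points. -/
theorem Fam.inW_iff {T : Over S} (l : T ⟶ D.Z) :
    D.InW (l ≫ D.zr) (l ≫ D.zp) ↔ ∀ x : T.left, l.left.base x ∈ D.W := by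
  constructor
  · rintro ⟨k, h1, h2⟩ x
    have e : k ≫ D.j = l :=
      D.hom_ext (by rw [Category.assoc]; exact h1) (by rw [Category.assoc]; exact h2)
    rw [show l.left.base x = D.W.ι.base (k.left.base x) from (congrArg (fun m => m.left.base x) e).symm]
    exact (show D.W.toScheme from k.left.base x).2
  · intro h
    have hr : Set.range l.left ⊆ Set.range D.W.ι := by
      rw [Scheme.Opens.range_ι]
      rintro _ ⟨x, rfl⟩
      exact h x
    let k : T ⟶ D.Wo := Over.homMk (IsOpenImmersion.lift D.W.ι l.left hr) (by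
      show _ ≫ D.W.ι ≫ D.Z.hom = T.hom
      rw [IsOpenImmersion.lift_fac_assoc, Over.w l])
    have hk : k ≫ D.j = l := Over.OverMorphism.ext (IsOpenImmersion.lift_fac _ _ _)
    exact ⟨k, by rw [Fam.m, reassoc_of% hk], by rw [Fam.p, reassoc_of% hk]⟩

/-- The arrow `ρ` identifies the families at `a` and `b`. -/
def Fam.Same {T : Over S} (ρ : T ⟶ oR G) (a b : T ⟶ D.V) : Prop :=
  ρ ≫ os G = a ≫ D.g ∧ ρ ≫ ot G = b ≫ D.g ∧
    ∀ (T' : Over S) (c : T' ⟶ T) (r : T' ⟶ oR G) (hr : r ≫ os G = (c ≫ ρ) ≫ ot G),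
      D.InW r (c ≫ b) ↔ D.InW (cmp r (c ≫ ρ) hr) (c ≫ a)

theorem Fam.same_refl {T : Over S} (a : T ⟶ D.V) : D.Same ((a ≫ D.g) ≫ oe G) a a := by
  refine ⟨by simp, by simp, fun T' c r hr => ?_⟩
  have hx : r ≫ os G = c ≫ a ≫ D.g := by rw [hr]; simp
  rw [(cmp_congr rfl (Category.assoc c (a ≫ D.g) (oe G)).symm hr).trans (cmp_id_right r _ hx)]

theorem Fam.same_symm {T : Over S} {ρ : T ⟶ oR G} {a b : T ⟶ D.V} (h : D.Same ρ a b) :
    D.Same (ρ ≫ oi G) b a := by
  refine ⟨by rw [Category.assoc, oi_os, h.2.1], by rw [Category.assoc, oi_ot, h.1], fun T' c r hr => ?_⟩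
  have hr' : r ≫ os G = (c ≫ ρ) ≫ os G := by rw [hr]; simp
  have h2 := h.2.2 T' c (cmp r ((c ≫ ρ) ≫ oi G) (by rw [hr']; simp)) (by rw [cmp_os, Category.assoc, oi_os])
  rw [cmp_cancel_right' r (c ≫ ρ) hr'] at h2
  rw [cmp_congr rfl (Category.assoc c ρ (oi G)).symm hr]
  exact h2.symm

theorem Fam.same_trans {T : Over S} {ρ ρ' : T ⟶ oR G} {a b d : T ⟶ D.V} (h : D.Same ρ a b)
    (h' : D.Same ρ' b d) :
    D.Same (cmp ρ' ρ (h'.1.trans h.2.1.symm)) a d := by
  refine ⟨by rw [cmp_os, h.1], by rw [cmp_ot, h'.2.1], fun T' c r hr => ?_⟩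
  have e := comp_cmp c ρ' ρ (h'.1.trans h.2.1.symm)
  have hr1 : r ≫ os G = (c ≫ ρ') ≫ ot G := by rw [hr, Category.assoc, cmp_ot, Category.assoc]
  have hr2 : cmp r (c ≫ ρ') hr1 ≫ os G = (c ≫ ρ) ≫ ot G := by
    rw [cmp_os, Category.assoc, Category.assoc, h'.1, h.2.1]
  rw [h'.2.2 T' c r hr1, h.2.2 T' c _ hr2, cmp_congr rfl e hr, ← cmp_assoc r (c ≫ ρ') (c ≫ ρ) hr1]

theorem Fam.same_comp {T T₁ : Over S} (d : T₁ ⟶ T) {ρ : T ⟶ oR G} {a b : T ⟶ D.V} (h : D.Same ρ a b) :
    D.Same (d ≫ ρ) (d ≫ a) (d ≫ b) := by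
  refine ⟨by rw [Category.assoc, h.1, Category.assoc], by rw [Category.assoc, h.2.1, Category.assoc],
    fun T' c r hr => ?_⟩
  rw [cmp_congr rfl (Category.assoc c d ρ).symm hr, ← Category.assoc c d a, ← Category.assoc c d b]
  exact h.2.2 T' (c ≫ d) r _

theorem Fam.same_congr {T : Over S} {ρ ρ' : T ⟶ oR G} {a b : T ⟶ D.V} (e : ρ = ρ') (h : D.Same ρ a b) :
    D.Same ρ' a b := e ▸ h

/-- The locus where an arrow identifies two families is clopen. -/
theorem Fam.exists_same_locus [Flat G.s] [LocallyOfFinitePresentation G.s] [IsSeparated G.s]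
    {T₀ : Over S} (ρ : T₀ ⟶ oR G) (a b : T₀ ⟶ D.V)
    (h₁ : ρ ≫ os G = a ≫ D.g) (h₂ : ρ ≫ ot G = b ≫ D.g) :
    ∃ E : T₀.left.Opens, IsClosed (E : Set T₀.left) ∧
      ∀ (T : Over S) (c : T ⟶ T₀), Set.range c.left.base ⊆ E ↔ D.Same (c ≫ ρ) (c ≫ a) (c ≫ b) := by
  let P : Over S := Over.mk (pullback.snd D.zp.left b.left ≫ T₀.hom)
  let pP : P ⟶ T₀ := Over.homMk (pullback.snd D.zp.left b.left) rfl
  let lb : P ⟶ D.Z := Over.homMk (pullback.fst D.zp.left b.left) (by
    show pullback.fst _ _ ≫ D.Z.hom = pullback.snd _ _ ≫ T₀.hom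
    rw [← Over.w D.zp, ← Over.w b, pullback.condition_assoc])
  have sqb : IsPullback lb pP D.zp b := AlgSpLib.isPullback_over (IsPullback.of_hasPullback D.zp.left b.left)
  have hs : (lb ≫ D.zr) ≫ os G = (pP ≫ ρ) ≫ ot G := by
    rw [Category.assoc, D.isPullback_zr.w, Category.assoc, h₂, reassoc_of% sqb.w]
  let la : P ⟶ D.Z := D.isPullback_zr.lift (cmp (lb ≫ D.zr) (pP ≫ ρ) hs) (pP ≫ a)
    (by rw [cmp_os, Category.assoc, h₁, Category.assoc])
  have hla1 : la ≫ D.zr = cmp (lb ≫ D.zr) (pP ≫ ρ) hs := D.isPullback_zr.lift_fst _ _ _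
  have hla2 : la ≫ D.zp = pP ≫ a := D.isPullback_zr.lift_snd _ _ _
  have hn : ∀ {T : Over S} (n : T ⟶ P), (n ≫ la) ≫ D.zr = cmp ((n ≫ lb) ≫ D.zr) ((n ≫ pP) ≫ ρ) (by
      have h' := congrArg (n ≫ ·) hs
      simp only [Category.assoc] at h' ⊢
      exact h') := fun n => by
    rw [Category.assoc, hla1, comp_cmp]
    exact cmp_congr (Category.assoc _ _ _).symm (Category.assoc _ _ _).symm _
  have sqa : IsPullback la pP D.zp a := by
    refine IsPullback.of_isLimit' ⟨hla2⟩ (PullbackCone.IsLimit.mk _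
      (fun s => sqb.lift (D.isPullback_zr.lift
        (cmp (s.fst ≫ D.zr) ((s.snd ≫ ρ) ≫ oi G) (by
          rw [Category.assoc, D.isPullback_zr.w, reassoc_of% s.condition, Category.assoc, oi_ot,
            Category.assoc, h₁]))
        (s.snd ≫ b) (by rw [cmp_os, Category.assoc, oi_os, Category.assoc, h₂, Category.assoc]))
        s.snd (D.isPullback_zr.lift_snd _ _ _))
      (fun s => ?_) (fun s => sqb.lift_snd _ _ _) (fun s m hm1 hm2 => ?_))
    · refine D.hom_ext ?_ (by rw [Category.assoc, hla2, sqb.lift_snd_assoc]; exact s.condition.symm)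
      rw [hn]
      refine (cmp_congr (by rw [sqb.lift_fst, D.isPullback_zr.lift_fst]) (by rw [sqb.lift_snd]) _).trans ?_
      exact cmp_cancel_right' (s.fst ≫ D.zr) (s.snd ≫ ρ) (by
        rw [Category.assoc, D.isPullback_zr.w, reassoc_of% s.condition, Category.assoc, h₁])
    · refine sqb.hom_ext ?_ (by rw [sqb.lift_snd]; exact hm2)
      rw [sqb.lift_fst]
      refine D.hom_ext ?_ (by rw [Category.assoc, sqb.w, ← Category.assoc, hm2, D.isPullback_zr.lift_snd])
      rw [D.isPullback_zr.lift_fst]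
      have hm1' : (m ≫ la) ≫ D.zr = s.fst ≫ D.zr := congrArg (· ≫ D.zr) hm1
      rw [hn] at hm1'
      refine ((cmp_congr hm1'.symm (show (s.snd ≫ ρ) ≫ oi G = ((m ≫ pP) ≫ ρ) ≫ oi G by rw [← hm2]) _).trans
        (cmp_cancel_right _ _ _)).symm
  let A : P.left.Opens := la.left ⁻¹ᵁ D.W
  let B : P.left.Opens := lb.left ⁻¹ᵁ D.W
  haveI : IsSeparated pP.left := inferInstanceAs (IsSeparated (pullback.snd D.zp.left b.left))
  haveI : Flat pP.left := inferInstanceAs (Flat (pullback.snd D.zp.left b.left))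
  haveI : LocallyOfFinitePresentation pP.left :=
    inferInstanceAs (LocallyOfFinitePresentation (pullback.snd D.zp.left b.left))
  have hfin : ∀ (l : P ⟶ D.Z) (d : T₀ ⟶ D.V), IsPullback l pP D.zp d →
      IsFinite ((l.left ⁻¹ᵁ D.W).ι ≫ pP.left) := by
    intro l d sq
    have sq1 := (isPullback_morphismRestrict l.left D.W).paste_vert (sq.map (Over.forget S))
    exact MorphismProperty.of_isPullback (P := @IsFinite) sq1 D.finite_W
  haveI hA : IsFinite (A.ι ≫ pP.left) := hfin la a sqa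
  haveI hB : IsFinite (B.ι ≫ pP.left) := hfin lb b sqb
  have hcl : ∀ O : P.left.Opens, IsFinite (O.ι ≫ pP.left) → IsClosed (O : Set P.left) := by
    intro O hO
    haveI := hO
    haveI : IsFinite O.ι := .of_comp _ pP.left
    have := O.ι.isClosedMap.isClosed_range
    rwa [Scheme.Opens.range_ι] at this
  let C : Set T₀.left := pP.left.base '' ((A : Set P.left) \ B ∪ ((B : Set P.left) \ A))
  have hCo : IsOpen C := pP.left.isOpenMap _
    ((A.2.sdiff (hcl B hB)).union (B.2.sdiff (hcl A hA)))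
  have himg : ∀ O : P.left.Opens, IsFinite (O.ι ≫ pP.left) → ∀ K : Set P.left, IsClosed K → K ⊆ O →
      IsClosed (pP.left.base '' K) := by
    intro O hO K hK hKO
    haveI := hO
    have h := (O.ι ≫ pP.left).isClosedMap _ (hK.preimage O.ι.continuous)
    rwa [Scheme.Hom.comp_base, TopCat.coe_comp, Set.image_comp, Set.image_preimage_eq_of_subset
      (by rw [Scheme.Opens.range_ι]; exact hKO)] at h
  have hCc : IsClosed C := by
    show IsClosed (pP.left.base '' _)
    rw [Set.image_union]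
    exact (himg A hA _ ((hcl A hA).sdiff B.2) Set.sdiff_subset).union
      (himg B hB _ ((hcl B hB).sdiff A.2) Set.sdiff_subset)
  refine ⟨⟨Cᶜ, hCc.isOpen_compl⟩, hCo.isClosed_compl, fun T c => ⟨fun hc => ⟨?_, ?_, ?_⟩, fun hS x hx => ?_⟩⟩
  · rw [Category.assoc, h₁, Category.assoc]
  · rw [Category.assoc, h₂, Category.assoc]
  · -- the two families agree
    intro T' e r hr
    let n : T' ⟶ P := sqb.lift (D.isPullback_zr.lift r (e ≫ c ≫ b)
      (by rw [hr]; simp only [Category.assoc, h₂])) (e ≫ c)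
      (by rw [D.isPullback_zr.lift_snd, Category.assoc])
    have hn1 : (n ≫ lb) ≫ D.zr = r := by rw [sqb.lift_fst, D.isPullback_zr.lift_fst]
    have hn2 : n ≫ pP = e ≫ c := sqb.lift_snd _ _ _
    have e1 : (n ≫ lb) ≫ D.zp = e ≫ c ≫ b := by rw [Category.assoc, sqb.w, reassoc_of% hn2]
    have e2 : (n ≫ la) ≫ D.zp = e ≫ c ≫ a := by rw [Category.assoc, hla2, reassoc_of% hn2]
    have e3 : (n ≫ la) ≫ D.zr = cmp r (e ≫ c ≫ ρ) hr :=
      (hn n).trans (cmp_congr hn1 (by rw [hn2, Category.assoc]) _)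
    calc D.InW r (e ≫ c ≫ b) ↔ ∀ x, (n ≫ lb).left.base x ∈ D.W := by
          rw [← D.inW_iff, hn1, e1]
      _ ↔ ∀ x, (n ≫ la).left.base x ∈ D.W := by
          refine forall_congr' fun x => ?_
          have hx : pP.left.base (n.left.base x) ∉ C := by
            rw [show pP.left.base (n.left.base x) = c.left.base (e.left.base x) from
              congrArg (fun m => m.left.base x) hn2]
            exact hc ⟨_, rfl⟩
          exact ⟨fun hxB => by_contra fun hxA => hx ⟨n.left.base x, Or.inr ⟨hxB, hxA⟩, rfl⟩,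
            fun hxA => by_contra fun hxB => hx ⟨n.left.base x, Or.inl ⟨hxA, hxB⟩, rfl⟩⟩
      _ ↔ _ := by rw [← D.inW_iff, e3, e2]
  · -- points outside the locus separate the families
    obtain ⟨y, rfl⟩ := hx
    rintro ⟨q, hq, hqy⟩
    have key : ∀ (T' : Over S) (n : T' ⟶ P) (e : T' ⟶ T), n ≫ pP = e ≫ c →
        ((∀ x, (n ≫ lb).left.base x ∈ D.W) ↔ ∀ x, (n ≫ la).left.base x ∈ D.W) := by
      intro T' n e hne
      have hr : ((n ≫ lb) ≫ D.zr) ≫ os G = (e ≫ c ≫ ρ) ≫ ot G := by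
        rw [Category.assoc, D.isPullback_zr.w, Category.assoc, reassoc_of% sqb.w, reassoc_of% hne]
        simp only [Category.assoc, h₂]
      have h := hS.2.2 T' e _ hr
      rw [← cmp_congr rfl (show (n ≫ pP) ≫ ρ = e ≫ c ≫ ρ by rw [hne, Category.assoc]) (by
          rw [hr, hne, Category.assoc e c ρ]), ← hn n,
        show e ≫ c ≫ b = (n ≫ lb) ≫ D.zp by rw [Category.assoc, sqb.w, reassoc_of% hne],
        show e ≫ c ≫ a = (n ≫ la) ≫ D.zp by rw [Category.assoc, hla2, reassoc_of% hne],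
        D.inW_iff, D.inW_iff] at h
      exact h
    have step : ∀ (O : P.left.Opens) (_ : q ∈ O), ∃ (T' : Over S) (n : T' ⟶ P) (e : T' ⟶ T) (w : T'.left),
        n ≫ pP = e ≫ c ∧ (∀ x, n.left.base x ∈ O) ∧ n.left.base w = q := by
      intro O hqO
      let Oo : Over S := Over.mk (O.ι ≫ P.hom)
      let o : Oo ⟶ P := Over.homMk O.ι rfl
      obtain ⟨w, hw1, -⟩ := Scheme.exists_preimage_of_isPullback
        ((IsPullback.of_hasPullback (o ≫ pP) c).map (Over.forget S)) (⟨q, hqO⟩ : O.toScheme) y hqy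
      refine ⟨pullback (o ≫ pP) c, pullback.fst (o ≫ pP) c ≫ o, pullback.snd (o ≫ pP) c, w, ?_,
        fun x => (show O.toScheme from (pullback.fst (o ≫ pP) c).left.base x).2, ?_⟩
      · rw [Category.assoc]; exact pullback.condition
      · exact congrArg O.ι.base hw1
    rcases hq with hq | hq
    · obtain ⟨T', n, e, w, hne, hnO, hw⟩ := step A hq.1
      have h := (key T' n e hne).mpr (fun x => hnO x) w
      exact hq.2 (show lb.left.base q ∈ D.W from hw ▸ h)
    · obtain ⟨T', n, e, w, hne, hnO, hw⟩ := step B hq.1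
      have h := (key T' n e hne).mp (fun x => hnO x) w
      exact hq.2 (show la.left.base q ∈ D.W from hw ▸ h)

end Groth.Agent.Split
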