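import Mathlib
import Groth.Agent.SplitLib.Family
import Groth.Agent.EtLocLib.Finite
import Groth.Agent.WeightLib.Split
import Groth.Prelude.Def_Dual3

/-!
# Families containing prescribed arrows
-/

set_option autoImplicit false
set_option backward.isDefEq.respectTransparency false
set_option maxHeartbeats 800000

universe u

open CategoryTheory CategoryTheory.Limits AlgebraicGeometry

noncomputable section

namespace Groth.Agent.Split

/-- Morphisms agreeing at a point with values in an extension field agree at the point. -/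
theorem eq_at_point {T X Y : Scheme.{u}} (f g : X ⟶ Y) (h : T ⟶ X) (x : T)
    (e : T.fromSpecResidueField x ≫ h ≫ f = T.fromSpecResidueField x ≫ h ≫ g) :
    X.fromSpecResidueField (h x) ≫ f = X.fromSpecResidueField (h x) ≫ g := by
  haveI : Flat (Spec.map (h.residueFieldMap x)) := by
    rw [HasRingHomProperty.Spec_iff (P := @Flat)]
    letI := (h.residueFieldMap x).hom.toAlgebra
    exact (inferInstance : Module.Flat (X.residueField (h x)) (T.residueField x))
  haveI : Surjective (Spec.map (h.residueFieldMap x)) :=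
    ⟨fun p => ⟨IsLocalRing.closedPoint _, Subsingleton.elim _ _⟩⟩
  haveI := Flat.epi_of_flat_of_surjective (Spec.map (h.residueFieldMap x))
  rw [← cancel_epi (Spec.map (h.residueFieldMap x))]
  simpa only [Scheme.Hom.SpecMap_residueFieldMap_fromSpecResidueField_assoc] using e

variable {S : Scheme.{u}} (G : Grpd.GroupoidScheme S)

/-- A finite set of arrows at `u` stable under translation by itself. -/
structure Stab (u : G.U) (J : Set G.R) : Prop where
  finite : J.Finite
  qf : ∀ r ∈ J, Dual3.QuasiFiniteAt G.s r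
  src : ∀ r ∈ J, G.s r = u
  tgt : ∀ r ∈ J, G.t r = u
  one : G.e u ∈ J
  transl : ∀ (T : Over S) (ρ r : T ⟶ oR G) (h : r ≫ os G = ρ ≫ ot G) (x : T.left),
    ρ.left x ∈ J → (r.left x ∈ J ↔ (cmp r ρ h).left x ∈ J)

/-- An etale neighbourhood of `u` with a family containing the given arrows. -/
structure Nbhd (u : G.U) (J : Set G.R) extends Fam G where
  /-- the point -/
  v : V.left
  etale_g : Etale g.left
  sep_g : IsSeparated g.left
  gv : g.left.base v = u
  /-- the rational point -/
  σ : Spec (G.U.residueField u) ⟶ V.left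
  hσ : σ ≫ g.left = G.U.fromSpecResidueField u
  σv : σ.base (IsLocalRing.closedPoint _) = v
  mem : ∀ z : ↥(pullback G.s g.left), (pullback.snd G.s g.left).base z = v →
    (z ∈ W ↔ (pullback.fst G.s g.left).base z ∈ J)

variable {G}

theorem exists_nbhd [IsAffine G.U] [IsSeparated G.s] [LocallyOfFinitePresentation G.s] {u : G.U}
    {J : Set G.R} (hJ : Stab G u J) : Nonempty (Nbhd G u J) := by
  classical
  have hq : ∀ r ∈ J, G.s.QuasiFiniteAt r := fun r hr =>
    Scheme.Hom.quasiFiniteAt_iff_isOpen_singleton_asFiber.mpr (hJ.qf r hr)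
  obtain ⟨V₀, g₀, hg₀, σ₀, hσ₀, n, W₀, hW₀, hcov⟩ := EtLocLib.exists_elementary_family G.s u hJ.finite.toFinset
    (fun r hr => ⟨hJ.src r (hJ.finite.mem_toFinset.mp hr), hq r (hJ.finite.mem_toFinset.mp hr)⟩)
  choose idx w₀ hw₀ hw₀v hw₀x hw₀u using hcov
  let K := {r : G.R // r ∈ hJ.finite.toFinset}
  let W₁ : (pullback G.s g₀).Opens := ⨆ k : K, W₀ (idx k.1 k.2)
  haveI : Finite K := inferInstance
  have hW₁ : IsFinite (W₁.ι ≫ pullback.snd G.s g₀) := by
    let e := (Fintype.equivFin K)
    have h := EtLocLib.isFinite_iSup (pullback.snd G.s g₀) (fun i : Fin (Fintype.card K) =>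
      W₀ (idx (e.symm i).1 (e.symm i).2)) (fun i => hW₀ _)
    have heq : W₁ = ⨆ i : Fin (Fintype.card K), W₀ (idx (e.symm i).1 (e.symm i).2) :=
      (e.symm.iSup_comp (g := fun k : K => W₀ (idx k.1 k.2))).symm
    rw [heq]
    exact h
  have hmem₁ : ∀ z : ↥(pullback G.s g₀), (pullback.snd G.s g₀).base z = σ₀.base (IsLocalRing.closedPoint _) →
      (z ∈ W₁ ↔ (pullback.fst G.s g₀).base z ∈ J) := by
    intro z hz
    refine ⟨fun hzW => ?_, fun hzJ => ?_⟩
    · obtain ⟨k, hk⟩ := TopologicalSpace.Opens.mem_iSup.mp hzW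
      rw [hw₀u k.1 k.2 z hk hz, hw₀x]
      exact hJ.finite.mem_toFinset.mp k.2
    · have hk := hJ.finite.mem_toFinset.mpr hzJ
      rw [EtLocLib.eq_of_section G.s g₀ σ₀ hσ₀ hz (hw₀v _ hk) (hw₀x _ hk).symm]
      exact TopologicalSpace.Opens.mem_iSup.mpr ⟨⟨_, hk⟩, hw₀ _ hk⟩
  obtain ⟨_, ⟨V', hV', rfl⟩, hvV, -⟩ := V₀.isBasis_affineOpens.exists_subset_of_mem_open
    (Set.mem_univ (σ₀.base (IsLocalRing.closedPoint _))) isOpen_univ
  let V' : V₀.Opens := V'
  haveI : IsAffine V'.toScheme := hV'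
  let g : V'.toScheme ⟶ G.U := V'.ι ≫ g₀
  obtain ⟨m, hm, hma⟩ := WeightLib.exists_isPullback_map (IsPullback.of_hasPullback G.s g₀)
    (IsPullback.of_hasPullback G.s g) V'.ι rfl
  have hr : Set.range σ₀ ⊆ Set.range V'.ι := by
    rintro _ ⟨p, rfl⟩
    rw [Scheme.Opens.range_ι, Subsingleton.elim p (IsLocalRing.closedPoint _)]
    exact hvV
  let σ := IsOpenImmersion.lift V'.ι σ₀ hr
  have hσ : σ ≫ V'.ι = σ₀ := IsOpenImmersion.lift_fac _ _ _
  let Vo : Over S := Over.mk (g ≫ G.pU)
  haveI : IsFinite (W₁.ι ≫ pullback.snd G.s g₀) := hW₁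
  refine ⟨{
    V := Vo
    g := Over.homMk g rfl
    W := m ⁻¹ᵁ W₁
    finite_W := WeightLib.isFinite_restrict hm W₁
    v := σ.base (IsLocalRing.closedPoint _)
    etale_g := inferInstanceAs (Etale (V'.ι ≫ g₀))
    sep_g := show IsSeparated g from inferInstance
    gv := ?_
    σ := σ
    hσ := show σ ≫ V'.ι ≫ g₀ = _ by rw [← Category.assoc, hσ, hσ₀]
    σv := rfl
    mem := fun z hz => ?_ }⟩
  · show (σ ≫ V'.ι ≫ g₀).base (IsLocalRing.closedPoint _) = u
    rw [← Category.assoc, hσ, hσ₀]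
    exact Scheme.fromSpecResidueField_apply _ _
  · show m.base z ∈ W₁ ↔ _
    rw [hmem₁ (m.base z) ?_]
    · rw [show (pullback.fst G.s g₀).base (m.base z) = (pullback.fst G.s g).base z from
        congrArg (fun f => f.base z) hma]
      rfl
    · rw [← hσ, show (pullback.snd G.s g₀).base (m.base z) = V'.ι.base ((pullback.snd G.s g).base z) from
        congrArg (fun f => f.base z) hm.w]
      exact congrArg V'.ι.base hz

variable {u : G.U} {J : Set G.R} (D : Nbhd G u J)

/-- Over the point, arrows of the given set identify the families. -/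
theorem Nbhd.same_of_points (hJ : Stab G u J) {T : Over S} (ρ : T ⟶ oR G) (a b : T ⟶ D.V)
    (h₁ : ρ ≫ os G = a ≫ D.g) (h₂ : ρ ≫ ot G = b ≫ D.g) (ha : ∀ x, a.left.base x = D.v)
    (hb : ∀ x, b.left.base x = D.v) (hρ : ∀ x, ρ.left.base x ∈ J) : D.Same ρ a b := by
  refine ⟨h₁, h₂, fun T' c r hr => ?_⟩
  have hrb : r ≫ os G = (c ≫ b) ≫ D.g := by rw [hr, Category.assoc, h₂, Category.assoc]
  have hra : cmp r (c ≫ ρ) hr ≫ os G = (c ≫ a) ≫ D.g := by rw [cmp_os, Category.assoc, h₁, Category.assoc]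
  let lb := D.isPullback_zr.lift r (c ≫ b) hrb
  let la := D.isPullback_zr.lift (cmp r (c ≫ ρ) hr) (c ≫ a) hra
  have hb1 : lb ≫ D.zr = r := D.isPullback_zr.lift_fst _ _ _
  have hb2 : lb ≫ D.zp = c ≫ b := D.isPullback_zr.lift_snd _ _ _
  have ha1 : la ≫ D.zr = cmp r (c ≫ ρ) hr := D.isPullback_zr.lift_fst _ _ _
  have ha2 : la ≫ D.zp = c ≫ a := D.isPullback_zr.lift_snd _ _ _
  calc D.InW r (c ≫ b) ↔ ∀ x, lb.left.base x ∈ D.W := by rw [← D.inW_iff, hb1, hb2]
    _ ↔ ∀ x, la.left.base x ∈ D.W := by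
        refine forall_congr' fun x => ?_
        have eb : (pullback.snd G.s D.g.left).base (lb.left.base x) = D.v :=
          (congrArg (fun f => f.left.base x) hb2).trans (hb (c.left.base x))
        have ea : (pullback.snd G.s D.g.left).base (la.left.base x) = D.v :=
          (congrArg (fun f => f.left.base x) ha2).trans (ha (c.left.base x))
        have eb' : (pullback.fst G.s D.g.left).base (lb.left.base x) = r.left.base x :=
          congrArg (fun f => f.left.base x) hb1
        have ea' : (pullback.fst G.s D.g.left).base (la.left.base x) = (cmp r (c ≫ ρ) hr).left.base x :=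
          congrArg (fun f => f.left.base x) ha1
        rw [D.mem _ eb, D.mem _ ea, eb', ea']
        exact hJ.transl T' (c ≫ ρ) r hr x (hρ _)
    _ ↔ _ := by rw [← D.inW_iff, ha1, ha2]

end Groth.Agent.Split
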