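import Mathlib
import Groth.Agent.SplitLib.Initial
import Groth.Agent.BootLib.SepQuotient

/-!
# The universal family
-/

set_option autoImplicit false
set_option backward.isDefEq.respectTransparency false
set_option maxHeartbeats 1600000

universe u

open CategoryTheory CategoryTheory.Limits AlgebraicGeometry

noncomputable section

namespace Groth.Agent.Split

variable {S : Scheme.{u}} {G : Grpd.GroupoidScheme S}

/-- An identity arrow identifies two families exactly when they are equal. -/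
theorem Fam.same_id_iff (D : Fam G) {T : Over S} (a b : T ⟶ D.V) :
    D.Same ((a ≫ D.g) ≫ oe G) a b ↔ a ≫ D.g = b ≫ D.g ∧
      ∀ (T' : Over S) (c : T' ⟶ T) (r : T' ⟶ oR G), r ≫ os G = c ≫ a ≫ D.g →
        (D.InW r (c ≫ b) ↔ D.InW r (c ≫ a)) := by
  have hx : ∀ (T' : Over S) (c : T' ⟶ T) (r : T' ⟶ oR G) (hr : r ≫ os G = (c ≫ (a ≫ D.g) ≫ oe G) ≫ ot G),
      cmp r (c ≫ (a ≫ D.g) ≫ oe G) hr = r := fun T' c r hr => by
    have hx : r ≫ os G = c ≫ a ≫ D.g := by rw [hr]; simp
    exact (cmp_congr rfl (Category.assoc c (a ≫ D.g) (oe G)).symm hr).trans (cmp_id_right r _ hx)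
  refine ⟨fun h => ⟨by simpa using h.2.1, fun T' c r hr => ?_⟩,
    fun h => ⟨by simp, by simpa using h.1, fun T' c r hr => ?_⟩⟩
  · have hr' : r ≫ os G = (c ≫ (a ≫ D.g) ≫ oe G) ≫ ot G := by rw [hr]; simp
    have := h.2.2 T' c r hr'
    rwa [hx] at this
  · rw [hx]
    exact h.2 T' c r (by rw [hr]; simp)

/-- Identity arrows identifying families give equal parameters. -/
def Fam.Inj (D : Fam G) : Prop :=
  ∀ (T : Over S) (a b : T ⟶ D.V), D.Same ((a ≫ D.g) ≫ oe G) a b → a = b

variable [Flat G.s] [LocallyOfFinitePresentation G.s] [IsSeparated G.s] {u : G.U} {J : Set G.R}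

theorem exists_refinement (D : Nbhd G u J) : ∃ D1 : Nbhd G u J, D1.Inj := by
  haveI := D.etale_g; haveI := D.sep_g
  obtain ⟨V1, c, g1, hcg, hce, hcs, hg1e, hg1s, hker⟩ := Boot.exists_sep_quotient D.g
    (fun T a b => D.Same ((a ≫ D.g) ≫ oe G) a b)
    (fun T => ⟨fun a => D.same_refl a, fun {a b} h => by
        have e : b ≫ D.g = a ≫ D.g := (show a ≫ D.g = b ≫ D.g by simpa using h.2.1).symm
        rw [e]
        exact D.same_congr (id_oi _) (D.same_symm h),
      fun {a b d} h h' => by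
        have e : a ≫ D.g = b ≫ D.g := by simpa using h.2.1
        refine D.same_congr ?_ (D.same_trans h h')
        exact (cmp_congr (by rw [e]) rfl _).trans (cmp_id_right ((a ≫ D.g) ≫ oe G) (a ≫ D.g) (by simp))⟩)
    (fun T a b h => by simpa using h.2.1) (fun T₀ a b hab => by
      obtain ⟨E, hE, hEiff⟩ := D.exists_same_locus ((a ≫ D.g) ≫ oe G) a b (by simp) (by simpa using hab)
      refine ⟨E, hE, fun T d => ?_⟩
      rw [show ((d ≫ a) ≫ D.g) ≫ oe G = d ≫ (a ≫ D.g) ≫ oe G by simp only [Category.assoc]]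
      exact hEiff T d)
  haveI := hce; haveI := hcs
  -- the comparison of fibre products
  let Z1 : Over S := Over.mk (pullback.fst G.s g1.left ≫ G.pR)
  let zr1 : Z1 ⟶ oR G := Over.homMk (pullback.fst G.s g1.left) rfl
  let zp1 : Z1 ⟶ V1 := Over.homMk (pullback.snd G.s g1.left) (by
    show pullback.snd G.s g1.left ≫ V1.hom = pullback.fst G.s g1.left ≫ G.pR
    rw [← Over.w g1, ← pullback.condition_assoc, ← G.s_over]
    rfl)
  have sq1 : IsPullback zr1 zp1 (os G) g1 := AlgSpLib.isPullback_over (IsPullback.of_hasPullback G.s g1.left)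
  let cz : D.Z ⟶ Z1 := sq1.lift D.zr (D.zp ≫ c) (by rw [Category.assoc, hcg]; exact D.isPullback_zr.w)
  have hcz1 : cz ≫ zr1 = D.zr := sq1.lift_fst _ _ _
  have hcz2 : cz ≫ zp1 = D.zp ≫ c := sq1.lift_snd _ _ _
  have sqc : IsPullback cz D.zp zp1 c := by
    refine IsPullback.of_right ?_ hcz2 sq1
    rw [hcz1, hcg]
    exact D.isPullback_zr
  haveI : Etale cz.left := MorphismProperty.of_isPullback (P := @Etale) (sqc.map (Over.forget S)).flip hce
  haveI : Surjective cz.left :=
    MorphismProperty.of_isPullback (P := @Surjective) (sqc.map (Over.forget S)).flip hcs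
  let W1 : (pullback G.s g1.left).Opens := ⟨cz.left.base '' (D.W : Set (pullback G.s D.g.left : Scheme.{u})),
    cz.left.isOpenMap _ D.W.2⟩
  -- the family is saturated
  have hsat : ∀ y w : D.Z.left, cz.left.base y = cz.left.base w → w ∈ D.W → y ∈ D.W := by
    intro y w hyw hw
    let T : Over S := pullback cz cz
    obtain ⟨τ, hτ1, hτ2⟩ := Scheme.exists_preimage_of_isPullback
      ((IsPullback.of_hasPullback cz cz).map (Over.forget S)) y w hyw
    let l₁ : T ⟶ D.Z := pullback.fst cz cz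
    let l₂ : T ⟶ D.Z := pullback.snd cz cz
    have e := pullback.condition (f := cz) (g := cz)
    have hzr : l₁ ≫ D.zr = l₂ ≫ D.zr := by
      have := congrArg (fun m => m ≫ zr1) e
      simp only [Category.assoc, hcz1] at this
      exact this
    have hzp : (l₁ ≫ D.zp) ≫ c = (l₂ ≫ D.zp) ≫ c := by
      have := congrArg (fun m => m ≫ zp1) e
      simp only [Category.assoc, hcz2] at this ⊢
      exact this
    obtain ⟨hg12, hS⟩ := (D.same_id_iff _ _).mp ((hker T (l₁ ≫ D.zp) (l₂ ≫ D.zp)).mp hzp)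
    let O : T.left.Opens := l₂.left ⁻¹ᵁ D.W
    let T' : Over S := Over.mk (O.ι ≫ T.hom)
    let o : T' ⟶ T := Over.homMk O.ι rfl
    have h2 : D.InW ((o ≫ l₂) ≫ D.zr) ((o ≫ l₂) ≫ D.zp) :=
      (D.inW_iff (o ≫ l₂)).mpr fun x => (show O.toScheme from x).2
    rw [Category.assoc o l₂ D.zp] at h2
    have h1 := (hS T' o _ (by rw [Category.assoc, D.isPullback_zr.w, hg12]; simp only [Category.assoc])).mp h2
    rw [← Category.assoc o l₁ D.zp, Category.assoc o l₂ D.zr, ← hzr, ← Category.assoc o l₁ D.zr, D.inW_iff] at h1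
    have hτ : τ ∈ O := show l₂.left.base τ ∈ D.W from (show l₂.left.base τ = w from hτ2) ▸ hw
    have := h1 (⟨τ, hτ⟩ : O.toScheme)
    rw [← hτ1]
    exact this
  have hpre : cz.left ⁻¹ᵁ W1 = D.W := by
    refine le_antisymm (fun y hy => ?_) (fun y hy => ⟨y, hy, rfl⟩)
    obtain ⟨w, hw, he⟩ := hy
    exact hsat y w he.symm hw
  have hW1 : IsFinite (W1.ι ≫ pullback.snd G.s g1.left) := by
    have sq1' := (isPullback_morphismRestrict cz.left W1).paste_vert (sqc.map (Over.forget S))
    refine MorphismProperty.of_isPullback_of_descendsAlong (P := @IsFinite)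
      (Q := @Surjective ⊓ @Flat ⊓ @LocallyOfFinitePresentation) sq1'.flip
      ⟨⟨hcs, (inferInstance : Flat c.left)⟩, (inferInstance : LocallyOfFinitePresentation c.left)⟩ ?_
    show IsFinite ((cz.left ⁻¹ᵁ W1).ι ≫ pullback.snd G.s D.g.left)
    rw [hpre]
    exact D.finite_W
  let D1 : Fam G := ⟨V1, g1, W1, hW1⟩
  have hin : ∀ (T : Over S) (r : T ⟶ oR G) (a : T ⟶ D.V), D1.InW r (a ≫ c) ↔ D.InW r a := by
    refine fun T r a => ⟨fun ⟨l, h1, h2⟩ => ?_, fun ⟨l, h1, h2⟩ => ?_⟩
    · let k := sqc.lift (l ≫ D1.j) a (by rw [Category.assoc]; exact h2)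
      have hk1 : k ≫ cz = l ≫ D1.j := sqc.lift_fst _ _ _
      have hk2 : k ≫ D.zp = a := sqc.lift_snd _ _ _
      have e1 : k ≫ D.zr = r := by
        rw [← hcz1, reassoc_of% hk1]
        exact h1
      rw [← e1, ← hk2]
      refine (D.inW_iff k).mpr fun x => ?_
      rw [← hpre]
      show cz.left.base (k.left.base x) ∈ W1
      rw [show cz.left.base (k.left.base x) = D1.j.left.base (l.left.base x) from
        congrArg (fun m => m.left.base x) hk1]
      exact (show W1.toScheme from l.left.base x).2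
    · have e1 : ((l ≫ D.j) ≫ cz) ≫ D1.zr = r := by
        show ((l ≫ D.j) ≫ cz) ≫ zr1 = r
        rw [Category.assoc, Category.assoc, hcz1]
        exact h1
      have e2 : ((l ≫ D.j) ≫ cz) ≫ D1.zp = a ≫ c := by
        show ((l ≫ D.j) ≫ cz) ≫ zp1 = a ≫ c
        rw [Category.assoc, Category.assoc, hcz2, ← h2]
        exact (congrArg (l ≫ ·) (Category.assoc D.j D.zp c).symm).trans (Category.assoc l _ c).symm
      rw [← e1, ← e2]
      exact (D1.inW_iff _).mpr fun x =>
        ⟨D.W.ι.base (l.left.base x), (show D.W.toScheme from l.left.base x).2, rfl⟩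
  have hgv : D1.g.left.base (c.left.base D.v) = u :=
    (congrArg (fun m => m.left.base D.v) hcg).trans D.gv
  have hσ : (D.σ ≫ c.left) ≫ D1.g.left = G.U.fromSpecResidueField u :=
    (Category.assoc _ _ _).trans ((congrArg (D.σ ≫ ·) (congrArg Over.Hom.left hcg)).trans D.hσ)
  have hσv : (D.σ ≫ c.left).base (IsLocalRing.closedPoint _) = c.left.base D.v :=
    congrArg c.left.base D.σv
  refine ⟨{
    D1 with
    v := c.left.base D.v
    etale_g := hg1e
    sep_g := hg1s
    gv := hgv
    σ := D.σ ≫ c.left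
    hσ := hσ
    σv := hσv
    mem := ?_ }, ?_⟩
  · intro z hz
    obtain ⟨z₀, hz1, hz2⟩ := Scheme.exists_preimage_of_isPullback (sqc.map (Over.forget S)) z D.v hz
    have e : (pullback.fst G.s g1.left).base z = (pullback.fst G.s D.g.left).base z₀ := by
      rw [← hz1]
      exact congrArg (fun m => m.left.base z₀) hcz1
    rw [e, ← D.mem z₀ hz2, ← hpre]
    exact ⟨fun h => show cz.left.base z₀ ∈ W1 from hz1.symm ▸ h,
      fun h => hz1 ▸ (show cz.left.base z₀ ∈ W1 from h)⟩
  · intro T a b hab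
    obtain ⟨hg, hS⟩ := (D1.same_id_iff a b).mp hab
    have hlift : ∀ {T : Over S} (a : T ⟶ V1), ∃ (T' : Over S) (q : T' ⟶ T) (a' : T' ⟶ D.V),
        Flat q.left ∧ Surjective q.left ∧ a' ≫ c = q ≫ a := fun {T} a => by
      let T' : Over S := Over.mk (pullback.fst a.left c.left ≫ T.hom)
      exact ⟨T', Over.homMk (pullback.fst a.left c.left) rfl, Over.homMk (pullback.snd a.left c.left) (by
          show pullback.snd a.left c.left ≫ D.V.hom = pullback.fst a.left c.left ≫ T.hom
          rw [← Over.w c, ← pullback.condition_assoc, Over.w a]),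
        inferInstanceAs (Flat (pullback.fst a.left c.left)),
        inferInstanceAs (Surjective (pullback.fst a.left c.left)),
        Over.OverMorphism.ext pullback.condition.symm⟩
    obtain ⟨T₁, q₁, a', hf₁, hs₁, ha⟩ := hlift a
    obtain ⟨T₂, q₂, b', hf₂, hs₂, hb⟩ := hlift (q₁ ≫ b)
    haveI := Flat.epi_of_flat_of_surjective q₁.left
    haveI := Flat.epi_of_flat_of_surjective q₂.left
    have ha' : (q₂ ≫ a') ≫ c = (q₂ ≫ q₁) ≫ a := by rw [Category.assoc, ha, Category.assoc]
    have hb' : b' ≫ c = (q₂ ≫ q₁) ≫ b := by rw [hb, Category.assoc]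
    have hg' : (q₂ ≫ a') ≫ D.g = b' ≫ D.g := by
      rw [← hcg, ← Category.assoc, ha', ← Category.assoc, hb', Category.assoc (q₂ ≫ q₁) a g1,
        show a ≫ g1 = b ≫ g1 from hg, ← Category.assoc]
    have := (hker T₂ (q₂ ≫ a') b').mpr ((D.same_id_iff _ _).mpr ⟨hg', fun T' d r hr => by
      rw [← hin, ← hin, Category.assoc d (q₂ ≫ a') c, ha', Category.assoc d b' c, hb', ← Category.assoc,
        ← Category.assoc]
      refine hS T' (d ≫ q₂ ≫ q₁) r ?_
      rw [hr, ← hcg, ← Category.assoc (q₂ ≫ a') c g1, ha']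
      simp only [Category.assoc]
      rfl⟩)
    rw [ha', hb'] at this
    apply Over.OverMorphism.ext
    rw [← cancel_epi q₁.left, ← cancel_epi q₂.left, ← Category.assoc, ← Category.assoc]
    exact congrArg Over.Hom.left this

end Groth.Agent.Split
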