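import Mathlib
import Groth.Agent.SplitLib.Refine

/-!
# The open set of arrows cut out by a universal family
-/

set_option autoImplicit false
set_option backward.isDefEq.respectTransparency false
set_option maxHeartbeats 1600000

universe u

open CategoryTheory CategoryTheory.Limits AlgebraicGeometry

noncomputable section

namespace Groth.Agent.Split

variable {S : Scheme.{u}} {G : Grpd.GroupoidScheme S}

/-- Arrows of the family which identify the families at their ends, with a lift of the target. -/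
structure Arrows (D : Fam G) where
  /-- the arrows -/
  P : Over S
  /-- the underlying point of the family -/
  pW : P ⟶ D.Wo
  /-- the lift of the target -/
  qV : P ⟶ D.V
  open_pW : IsOpenImmersion pW.left
  same : D.Same (pW ≫ D.m) (pW ≫ D.p) qV
  char : ∀ (T : Over S) (l : T ⟶ D.Wo) (b : T ⟶ D.V), D.Same (l ≫ D.m) (l ≫ D.p) b →
    ∃ l' : T ⟶ P, l' ≫ pW = l ∧ l' ≫ qV = b

/-- An open set of parameters over which the arrows form a finite subgroupoid. -/
structure Arrows.Good {D : Fam G} (A : Arrows D) (N : D.V.left.Opens) : Prop where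
  one : ∀ (T : Over S) (a : T ⟶ D.V), (∀ x, a.left.base x ∈ N) → D.InW ((a ≫ D.g) ≫ oe G) a
  lift : ∀ w : D.Wo.left, D.p.left.base w ∈ N → w ∈ Set.range A.pW.left.base
  stab : ∀ τ : A.P.left, D.p.left.base (A.pW.left.base τ) ∈ N → A.qV.left.base τ ∈ N

theorem Arrows.Good.mono {D : Fam G} {A : Arrows D} {N M : D.V.left.Opens} (h : A.Good N) (hMN : M ≤ N)
    (hM : ∀ τ : A.P.left, D.p.left.base (A.pW.left.base τ) ∈ M → A.qV.left.base τ ∈ M) : A.Good M :=
  ⟨fun T a ha => h.one T a fun x => hMN (ha x), fun w hw => h.lift w (hMN hw), hM⟩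

variable [Flat G.s] [LocallyOfFinitePresentation G.s] [IsSeparated G.s]

theorem exists_arrows (D : Fam G) [Etale D.g.left] (hinj : D.Inj) : Nonempty (Arrows D) := by
  let WV : Over S := Over.mk (pullback.fst (D.m ≫ ot G).left D.g.left ≫ D.Wo.hom)
  let pw : WV ⟶ D.Wo := Over.homMk (pullback.fst (D.m ≫ ot G).left D.g.left) rfl
  let pv : WV ⟶ D.V := Over.homMk (pullback.snd (D.m ≫ ot G).left D.g.left) (by
    show pullback.snd (D.m ≫ ot G).left D.g.left ≫ D.V.hom = pullback.fst (D.m ≫ ot G).left D.g.left ≫ D.Wo.hom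
    rw [← Over.w D.g, ← pullback.condition_assoc, Over.w (D.m ≫ ot G)])
  have sqW : IsPullback pw pv (D.m ≫ ot G) D.g :=
    AlgSpLib.isPullback_over (IsPullback.of_hasPullback (D.m ≫ ot G).left D.g.left)
  obtain ⟨E, -, hEiff⟩ := D.exists_same_locus (pw ≫ D.m) (pw ≫ D.p) pv
    (by rw [Category.assoc, D.m_os, Category.assoc]) (by rw [Category.assoc]; exact sqW.w)
  let PO : Over S := Over.mk (E.ι ≫ WV.hom)
  let i : PO ⟶ WV := Over.homMk E.ι rfl
  haveI : IsOpenImmersion i.left := inferInstanceAs (IsOpenImmersion E.ι)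
  let pW : PO ⟶ D.Wo := i ≫ pw
  let qV : PO ⟶ D.V := i ≫ pv
  have hsame : D.Same (pW ≫ D.m) (pW ≫ D.p) qV := by
    have := (hEiff PO i).mp (by rintro _ ⟨x, rfl⟩; exact (show E.toScheme from x).2)
    rwa [← Category.assoc, ← Category.assoc] at this
  haveI : Etale pw.left := inferInstanceAs (Etale (pullback.fst (D.m ≫ ot G).left D.g.left))
  haveI : Etale pW.left := inferInstanceAs (Etale (i.left ≫ pw.left))
  have hmono : Mono pW := by
    refine ⟨fun {T} l l' h => ?_⟩
    have h1 := D.same_comp l hsame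
    have h1' := D.same_comp l' hsame
    have e₁ : l' ≫ pW ≫ D.m = l ≫ pW ≫ D.m := by rw [← Category.assoc, ← h, Category.assoc]
    have e₂ : l' ≫ pW ≫ D.p = l ≫ pW ≫ D.p := by rw [← Category.assoc, ← h, Category.assoc]
    rw [e₁, e₂] at h1'
    have h2 : l ≫ qV = l' ≫ qV := hinj T _ _ (D.same_congr (by
      rw [cmp_oi, ← h1.2.1]; simp only [Category.assoc]) (D.same_trans (D.same_symm h1) h1'))
    have hm : Mono i := Over.mono_of_mono_left i
    refine (cancel_mono i).mp (sqW.hom_ext ?_ ?_)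
    · rw [Category.assoc, Category.assoc]; exact h
    · rw [Category.assoc, Category.assoc]; exact h2
  haveI : Mono pW.left := (Over.forget S).map_mono pW
  haveI : IsOpenImmersion pW.left := IsOpenImmersion.of_flat_of_mono pW.left
  refine ⟨⟨PO, pW, qV, inferInstance, hsame, fun T l b h => ?_⟩⟩
  let c := sqW.lift l b (by rw [← Category.assoc]; exact h.2.1)
  have hc1 : c ≫ pw = l := sqW.lift_fst _ _ _
  have hc2 : c ≫ pv = b := sqW.lift_snd _ _ _
  have hr : Set.range c.left ⊆ Set.range E.ι := by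
    rw [Scheme.Opens.range_ι]
    refine (hEiff T c).mpr ?_
    rw [reassoc_of% hc1, reassoc_of% hc1, hc2]
    exact h
  let l' : T ⟶ PO := Over.homMk (IsOpenImmersion.lift E.ι c.left hr) (by
    show _ ≫ E.ι ≫ WV.hom = T.hom
    rw [IsOpenImmersion.lift_fac_assoc, Over.w c])
  have hl' : l' ≫ i = c := Over.OverMorphism.ext (IsOpenImmersion.lift_fac _ _ _)
  exact ⟨l', by rw [show pW = i ≫ pw from rfl, reassoc_of% hl', hc1],
    by rw [show qV = i ≫ pv from rfl, reassoc_of% hl', hc2]⟩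

variable {u : G.U} {J : Set G.R}

theorem exists_good (D : Nbhd G u J) (hJ : Stab G u J) (A : Arrows D.toFam) :
    ∃ N : D.V.left.Opens, D.v ∈ N ∧ A.Good N ∧
      ∀ τ : A.P.left, D.p.left.base (A.pW.left.base τ) = D.v → A.qV.left.base τ = D.v := by
  haveI := A.open_pW
  let sec : D.V ⟶ D.Z := D.isPullback_zr.lift (D.g ≫ oe G) (𝟙 D.V) (by simp)
  have hsec1 : sec ≫ D.zr = D.g ≫ oe G := D.isPullback_zr.lift_fst _ _ _
  have hsec2 : sec ≫ D.zp = 𝟙 D.V := D.isPullback_zr.lift_snd _ _ _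
  let Ω : D.V.left.Opens := sec.left ⁻¹ᵁ D.W
  have hvΩ : D.v ∈ Ω := by
    refine (D.mem (sec.left.base D.v) (congrArg (fun m => m.left.base D.v) hsec2)).mpr ?_
    rw [show (pullback.fst G.s D.g.left).base (sec.left.base D.v) = G.e (D.g.left.base D.v) from
      congrArg (fun m => m.left.base D.v) hsec1, D.gv]
    exact hJ.one
  have hdiag : ∀ (T : Over S) (a : T ⟶ D.V), (∀ x, a.left.base x ∈ Ω) → D.InW ((a ≫ D.g) ≫ oe G) a := by
    intro T a ha
    have := (D.inW_iff (a ≫ sec)).mpr ha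
    rw [Category.assoc a sec, Category.assoc a sec, hsec1, hsec2, Category.comp_id, ← Category.assoc] at this
    exact this
  -- every point of the family over `v` lifts to an arrow ending at `v`
  have hover : ∀ w : D.Wo.left, D.p.left.base w = D.v →
      ∃ τ : A.P.left, A.pW.left.base τ = w ∧ A.qV.left.base τ = D.v := by
    intro w hw
    let x := D.Wo.left.fromSpecResidueField w
    let T : Over S := Over.mk (x ≫ D.Wo.hom)
    let l : T ⟶ D.Wo := Over.homMk x rfl
    have hlw : ∀ y, l.left.base y = w := fun y => Scheme.fromSpecResidueField_apply _ y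
    have hwJ : D.m.left.base w ∈ J :=
      (D.mem (D.W.ι.base w) hw).mp (show D.W.toScheme from w).2
    have htu : ((l ≫ D.m).left ≫ G.t).base (IsLocalRing.closedPoint _) = u := by
      show G.t (D.m.left.base (l.left.base _)) = u
      rw [hlw]
      exact hJ.tgt _ hwJ
    obtain ⟨φ, hφ⟩ := WeightLib.exists_eq_specMap_fromSpecResidueField ((l ≫ D.m).left ≫ G.t) htu
    let b : T ⟶ D.V := Over.homMk (Spec.map φ ≫ D.σ) (by
      have h1 : D.g.left ≫ G.pU = D.V.hom := Over.w D.g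
      rw [← h1, Category.assoc, reassoc_of% D.hσ, reassoc_of% hφ, G.t_over]
      exact Over.w (l ≫ D.m))
    have hb : b ≫ D.g = (l ≫ D.m) ≫ ot G := Over.OverMorphism.ext (by
      show (Spec.map φ ≫ D.σ) ≫ D.g.left = (l ≫ D.m).left ≫ G.t
      rw [Category.assoc, D.hσ, hφ])
    have hbv : ∀ y, b.left.base y = D.v := fun y => by
      show D.σ.base ((Spec.map φ).base y) = D.v
      rw [Subsingleton.elim ((Spec.map φ).base y) (IsLocalRing.closedPoint _), D.σv]
    obtain ⟨θ, hθ1, hθ2⟩ := A.char T l b (D.same_of_points hJ _ _ _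
      (by rw [Category.assoc, D.m_os, Category.assoc]) hb.symm
      (fun y => show D.p.left.base (l.left.base y) = D.v by rw [hlw, hw]) hbv
      (fun y => show D.m.left.base (l.left.base y) ∈ J by rw [hlw]; exact hwJ))
    let y₀ : T.left := IsLocalRing.closedPoint _
    exact ⟨θ.left.base y₀, (congrArg (fun m => m.left.base y₀) hθ1).trans (hlw y₀),
      (congrArg (fun m => m.left.base y₀) hθ2).trans (hbv y₀)⟩
  let W' : Set D.Wo.left := A.pW.left.base '' (A.qV.left.base ⁻¹' Ω)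
  have hW'o : IsOpen W' := A.pW.left.isOpenEmbedding.isOpenMap _ (Ω.2.preimage A.qV.left.continuous)
  have hC : IsClosed (D.p.left.base '' W'ᶜ) := D.p.left.isClosedMap _ hW'o.isClosed_compl
  let N : D.V.left.Opens := Ω ⊓ ⟨(D.p.left.base '' W'ᶜ)ᶜ, hC.isOpen_compl⟩
  have hN : ∀ w : D.Wo.left, D.p.left.base w ∈ N → w ∈ W' := fun w hw => by
    by_contra hw'
    exact hw.2 ⟨w, hw', rfl⟩
  refine ⟨N, ⟨hvΩ, ?_⟩, ⟨fun T a ha => hdiag T a fun x => (ha x).1, fun w hw => ?_, fun τ hτ => ?_⟩,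
    fun τ hτ => ?_⟩
  · rintro ⟨w, hw, hwv⟩
    obtain ⟨τ, h1, h2⟩ := hover w hwv
    exact hw ⟨τ, show A.qV.left.base τ ∈ Ω from h2.symm ▸ hvΩ, h1⟩
  · obtain ⟨τ, -, hτ⟩ := hN w hw
    exact ⟨τ, hτ⟩
  rotate_left
  · obtain ⟨τ', h1, h2⟩ := hover _ hτ
    rwa [A.pW.left.isOpenEmbedding.injective h1] at h2
  -- stability
  obtain ⟨τ', hτ'N, hτ'⟩ := hN _ hτ
  have : τ' = τ := A.pW.left.isOpenEmbedding.injective hτ'
  subst this
  refine ⟨hτ'N, ?_⟩
  rintro ⟨w, hw, hwq⟩
  apply hw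
  let T : Over S := pullback A.qV D.p
  let θ : T ⟶ A.P := pullback.fst A.qV D.p
  let l : T ⟶ D.Wo := pullback.snd A.qV D.p
  obtain ⟨x, hx1, hx2⟩ := Scheme.exists_preimage_of_isPullback
    ((IsPullback.of_hasPullback A.qV D.p).map (Over.forget S)) τ' w hwq.symm
  have hS := D.same_comp θ A.same
  have hb : θ ≫ A.qV = l ≫ D.p := pullback.condition
  have hr : (l ≫ D.m) ≫ os G = (θ ≫ A.pW ≫ D.m) ≫ ot G := by
    rw [hS.2.1, Category.assoc, D.m_os, hb, Category.assoc]
  have hin : D.InW (cmp (l ≫ D.m) (θ ≫ A.pW ≫ D.m) hr) (θ ≫ A.pW ≫ D.p) := by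
    have := (hS.2.2 T (𝟙 T) (l ≫ D.m) (by rw [Category.id_comp]; exact hr)).mp
      (by rw [Category.id_comp, hb]; exact ⟨l, rfl, rfl⟩)
    simp only [Category.id_comp] at this
    exact this
  obtain ⟨l₃, h3m, h3p⟩ := hin
  let O : T.left.Opens := l₃.left ⁻¹ᵁ A.pW.left.opensRange
  let T₀ : Over S := Over.mk (O.ι ≫ T.hom)
  let e : T₀ ⟶ T := Over.homMk O.ι rfl
  have hr3 : Set.range (O.ι ≫ l₃.left) ⊆ Set.range A.pW.left := by
    rintro _ ⟨y, rfl⟩
    rw [Scheme.Hom.comp_apply]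
    exact (show O.toScheme from y).2
  let θ₃ : T₀ ⟶ A.P := Over.homMk (IsOpenImmersion.lift A.pW.left (O.ι ≫ l₃.left) hr3) (by
    rw [← Over.w A.pW, IsOpenImmersion.lift_fac_assoc, Category.assoc, Over.w l₃]; rfl)
  have h3 : θ₃ ≫ A.pW = e ≫ l₃ := Over.OverMorphism.ext (IsOpenImmersion.lift_fac _ _ _)
  have hS3 := D.same_comp θ₃ A.same
  rw [reassoc_of% h3, reassoc_of% h3, h3m, h3p] at hS3
  have hrho : (e ≫ l ≫ D.m) ≫ os G = (e ≫ θ ≫ A.pW ≫ D.m) ≫ ot G := by
    rw [Category.assoc, hr]; simp only [Category.assoc]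
  obtain ⟨θ', hθ1, hθ2⟩ := A.char T₀ (e ≫ l) (θ₃ ≫ A.qV) (by
    have h := D.same_trans (D.same_symm (D.same_comp e hS)) hS3
    rw [Category.assoc, Category.assoc, ← hb]
    refine D.same_congr ?_ h
    exact (cmp_congr (comp_cmp e _ _ hr) rfl _).trans (cmp_cancel_right _ _ hrho))
  have hx3 : l₃.left.base x ∈ W' := by
    refine hN _ ?_
    rw [show D.p.left.base (l₃.left.base x) = D.p.left.base (A.pW.left.base (θ.left.base x)) from
      congrArg (fun m => m.left.base x) h3p, show θ.left.base x = τ' from hx1]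
    exact hτ
  obtain ⟨τ₃, hτ₃N, hτ₃⟩ := hx3
  let x₀ : T₀.left := (⟨x, ⟨τ₃, hτ₃⟩⟩ : O.toScheme)
  refine ⟨θ'.left.base x₀, ?_, (congrArg (fun m => m.left.base x₀) hθ1).trans hx2⟩
  show A.qV.left.base (θ'.left.base x₀) ∈ Ω
  rw [show A.qV.left.base (θ'.left.base x₀) = A.qV.left.base (θ₃.left.base x₀) from
    congrArg (fun m => m.left.base x₀) hθ2]
  have : θ₃.left.base x₀ = τ₃ := A.pW.left.isOpenEmbedding.injective
    ((congrArg (fun m => m.left.base x₀) h3).trans hτ₃.symm)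
  rw [this]
  exact hτ₃N

end Groth.Agent.Split
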