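import Mathlib
import Groth.Agent.SplitLib.Restrict
import Groth.Agent.SplitLib.Stable
import Groth.Agent.GrpdLib.InvOpen

/-!
# Splitting a groupoid scheme over an etale neighbourhood
-/

set_option autoImplicit false
set_option backward.isDefEq.respectTransparency false
set_option maxHeartbeats 1600000

universe u

open CategoryTheory CategoryTheory.Limits AlgebraicGeometry

noncomputable section

namespace Groth.Agent.Split

variable {S : Scheme.{u}} {G : Grpd.GroupoidScheme S} (D : Fam G) (A : Arrows D) (N : D.V.left.Opens)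

/-- The map from an open set of parameters. -/
abbrev gN : N.toScheme ⟶ G.U := N.ι ≫ D.g.left

variable {D N} {T : Scheme.{u}}

/-- A point of the restriction as an object over `S`. -/
def toT (r : T ⟶ RR G (gN D N)) : Over S := Over.mk (r ≫ rf G (gN D N) ≫ G.pR)

/-- Its arrow. -/
def rhoT (r : T ⟶ RR G (gN D N)) : toT r ⟶ oR G := Over.homMk (r ≫ rf G (gN D N)) (Category.assoc _ _ _)

/-- Its source. -/
def srcT (r : T ⟶ RR G (gN D N)) : toT r ⟶ D.V := Over.homMk (r ≫ rs G (gN D N) ≫ N.ι) (by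
  show (r ≫ rs G (gN D N) ≫ N.ι) ≫ D.V.hom = r ≫ rf G (gN D N) ≫ G.pR
  rw [← Over.w D.g, ← G.s_over, rf_s_assoc]
  simp only [gN, Category.assoc]
  rfl)

/-- Its target. -/
def tgtT (r : T ⟶ RR G (gN D N)) : toT r ⟶ D.V := Over.homMk (r ≫ rt G (gN D N) ≫ N.ι) (by
  show (r ≫ rt G (gN D N) ≫ N.ι) ≫ D.V.hom = r ≫ rf G (gN D N) ≫ G.pR
  rw [← Over.w D.g, ← G.t_over, rf_t_assoc]
  simp only [gN, Category.assoc]
  rfl)

/-- The arrow identifies the families at its ends. -/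
def SameAt (r : T ⟶ RR G (gN D N)) : Prop := D.Same (rhoT r) (srcT r) (tgtT r)

theorem sameAt_intro {T : Over S} (ρ : T ⟶ oR G) (a b : T ⟶ D.V) (h : D.Same ρ a b)
    (r : T.left ⟶ RR G (gN D N)) (hρ : r ≫ rf G _ = ρ.left) (ha : r ≫ rs G _ ≫ N.ι = a.left)
    (hb : r ≫ rt G _ ≫ N.ι = b.left) : SameAt r := by
  let d : toT r ⟶ T := Over.homMk (𝟙 T.left) (by
    show 𝟙 T.left ≫ T.hom = r ≫ rf G _ ≫ G.pR
    rw [Category.id_comp, reassoc_of% hρ]
    exact (Over.w ρ).symm)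
  have hd := D.same_comp d h
  rwa [show d ≫ ρ = rhoT r from Over.OverMorphism.ext ((Category.id_comp _).trans hρ.symm),
    show d ≫ a = srcT r from Over.OverMorphism.ext ((Category.id_comp _).trans ha.symm),
    show d ≫ b = tgtT r from Over.OverMorphism.ext ((Category.id_comp _).trans hb.symm)] at hd

variable (N)

/-- The finite arrows over an open set of parameters. -/
abbrev PS : Scheme.{u} := ((A.pW ≫ D.p).left ⁻¹ᵁ N).toScheme

variable {A N} (hN : A.Good N)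

/-- Their source. -/
abbrev psrc : PS A N ⟶ N.toScheme := (A.pW ≫ D.p).left ∣_ N

include hN in
theorem range_tgt : Set.range (((A.pW ≫ D.p).left ⁻¹ᵁ N).ι ≫ A.qV.left) ⊆ Set.range N.ι := by
  rintro _ ⟨τ, rfl⟩
  rw [Scheme.Opens.range_ι, Scheme.Hom.comp_apply]
  exact hN.stab _ (show PS A N from τ).2

/-- Their target. -/
def ptgt : PS A N ⟶ N.toScheme :=
  IsOpenImmersion.lift N.ι (((A.pW ≫ D.p).left ⁻¹ᵁ N).ι ≫ A.qV.left) (range_tgt hN)

theorem ptgt_ι : ptgt hN ≫ N.ι = ((A.pW ≫ D.p).left ⁻¹ᵁ N).ι ≫ A.qV.left :=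
  IsOpenImmersion.lift_fac _ _ _

/-- The inclusion in the restriction. -/
def incl : PS A N ⟶ RR G (gN D N) :=
  mkR (((A.pW ≫ D.p).left ⁻¹ᵁ N).ι ≫ (A.pW ≫ D.m).left) (psrc) (ptgt hN)
    (by
      show _ = psrc ≫ N.ι ≫ D.g.left
      rw [morphismRestrict_ι_assoc, Category.assoc]
      exact congrArg (_ ≫ ·) (congrArg Over.Hom.left A.same.1))
    (by
      show _ = ptgt hN ≫ N.ι ≫ D.g.left
      rw [reassoc_of% (ptgt_ι hN), Category.assoc]
      exact congrArg (_ ≫ ·) (congrArg Over.Hom.left A.same.2.1))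

theorem incl_rs : incl hN ≫ rs G (gN D N) = psrc := mkR_rs ..

theorem incl_rt : incl hN ≫ rt G (gN D N) = ptgt hN := mkR_rt ..

theorem sameAt_iff (r : T ⟶ RR G (gN D N)) : SameAt r ↔ ∃ l, l ≫ incl hN = r := by
  haveI := A.open_pW
  constructor
  · intro h
    have hone := hN.one _ (tgtT r) fun x => (show N.toScheme from (r ≫ rt G (gN D N)).base x).2
    have hi : (((tgtT r) ≫ D.g) ≫ oe G) ≫ os G = (𝟙 _ ≫ rhoT r) ≫ ot G := by
      simp [h.2.1]
    have hin := (h.2.2 _ (𝟙 _) _ hi).mp (by rw [Category.id_comp]; exact hone)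
    rw [(cmp_congr rfl (Category.id_comp _) hi).trans (cmp_id_left (rhoT r) _ h.2.1), Category.id_comp] at hin
    obtain ⟨l, hl1, hl2⟩ := hin
    obtain ⟨θ, hθ1, hθ2⟩ := A.char _ l (tgtT r) (by rw [hl1, hl2]; exact h)
    have hsrc : θ ≫ A.pW ≫ D.p = srcT r := by rw [reassoc_of% hθ1, hl2]
    have hrho : θ ≫ A.pW ≫ D.m = rhoT r := by rw [reassoc_of% hθ1, hl1]
    have hr : Set.range θ.left ⊆ Set.range ((A.pW ≫ D.p).left ⁻¹ᵁ N).ι := by
      rintro _ ⟨x, rfl⟩
      rw [Scheme.Opens.range_ι]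
      show (A.pW ≫ D.p).left.base (θ.left.base x) ∈ N
      rw [show (A.pW ≫ D.p).left.base (θ.left.base x) = (srcT r).left.base x from
        congrArg (fun m => m.left.base x) hsrc]
      exact (show N.toScheme from (r ≫ rs G (gN D N)).base x).2
    refine ⟨IsOpenImmersion.lift _ θ.left hr, RR_hom_ext ?_ ?_ ?_⟩
    · rw [Category.assoc, incl, mkR_rf, IsOpenImmersion.lift_fac_assoc]
      exact congrArg Over.Hom.left hrho
    · rw [← cancel_mono N.ι, Category.assoc, Category.assoc, Category.assoc, incl, mkR_rs_assoc,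
        morphismRestrict_ι, IsOpenImmersion.lift_fac_assoc]
      exact congrArg Over.Hom.left hsrc
    · rw [← cancel_mono N.ι, Category.assoc, Category.assoc, Category.assoc, incl, mkR_rt_assoc,
        ptgt_ι, IsOpenImmersion.lift_fac_assoc]
      exact congrArg Over.Hom.left hθ2
  · rintro ⟨l, rfl⟩
    let T' : Over S := Over.mk ((l ≫ ((A.pW ≫ D.p).left ⁻¹ᵁ N).ι) ≫ A.P.hom)
    let d : T' ⟶ A.P := Over.homMk (l ≫ ((A.pW ≫ D.p).left ⁻¹ᵁ N).ι) rfl
    refine sameAt_intro (T := T') (d ≫ A.pW ≫ D.m) (d ≫ A.pW ≫ D.p) (d ≫ A.qV) (D.same_comp d A.same) _ ?_ ?_ ?_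
    · show (l ≫ incl hN) ≫ _ = (l ≫ _) ≫ (A.pW ≫ D.m).left
      rw [Category.assoc, incl, mkR_rf, Category.assoc]
    · show (l ≫ incl hN) ≫ _ ≫ _ = (l ≫ _) ≫ (A.pW ≫ D.p).left
      rw [Category.assoc, incl, mkR_rs_assoc, morphismRestrict_ι, Category.assoc]
    · show (l ≫ incl hN) ≫ _ ≫ _ = (l ≫ _) ≫ A.qV.left
      rw [Category.assoc, incl, mkR_rt_assoc, ptgt_ι, Category.assoc]

include hN in
theorem mono_incl : Mono (incl hN) := by
  haveI := A.open_pW
  refine ⟨fun {T} l l' h => ?_⟩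
  let j₀ := ((A.pW ≫ D.p).left ⁻¹ᵁ N).ι
  have hm : (l ≫ j₀) ≫ (A.pW ≫ D.m).left = (l' ≫ j₀) ≫ (A.pW ≫ D.m).left := by
    have := congrArg (· ≫ rf G (gN D N)) h
    simpa only [incl, Category.assoc, mkR_rf] using this
  have hp : (l ≫ j₀) ≫ (A.pW ≫ D.p).left = (l' ≫ j₀) ≫ (A.pW ≫ D.p).left := by
    have := congrArg (· ≫ rs G (gN D N) ≫ N.ι) h
    simpa only [incl, Category.assoc, mkR_rs_assoc, morphismRestrict_ι] using this
  let T₁ : Over S := Over.mk ((l ≫ j₀) ≫ A.P.hom)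
  let d : T₁ ⟶ A.P := Over.homMk (l ≫ j₀) rfl
  let d' : T₁ ⟶ A.P := Over.homMk (l' ≫ j₀) (by
    show (l' ≫ j₀) ≫ A.P.hom = (l ≫ j₀) ≫ A.P.hom
    rw [← Over.w (A.pW ≫ D.p), ← Category.assoc, ← hp, Category.assoc])
  haveI : Mono A.pW := Over.mono_of_mono_left A.pW
  have : d = d' := (cancel_mono A.pW).mp (D.hom_ext_W
    (by rw [Category.assoc, Category.assoc]; exact Over.OverMorphism.ext hm)
    (by rw [Category.assoc, Category.assoc]; exact Over.OverMorphism.ext hp))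
  rw [← cancel_mono j₀]
  exact congrArg Over.Hom.left this

theorem isOpenImmersion_incl [Etale D.g.left] : IsOpenImmersion (incl hN) := by
  haveI := A.open_pW
  haveI := etale_rf G (gN D N)
  haveI : Etale (pullback.fst G.s D.g.left) := inferInstance
  haveI : Etale (D.m.left) := inferInstanceAs (Etale (D.W.ι ≫ pullback.fst G.s D.g.left))
  haveI : Etale (incl hN ≫ rf G (gN D N)) := by
    rw [incl, mkR_rf]
    exact inferInstanceAs (Etale (((A.pW ≫ D.p).left ⁻¹ᵁ N).ι ≫ A.pW.left ≫ D.m.left))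
  haveI : Etale (incl hN) := Etale.of_comp (incl hN) (rf G (gN D N))
  haveI := mono_incl hN
  exact IsOpenImmersion.of_flat_of_mono (incl hN)

theorem sameAt_incl : SameAt (incl hN) := (sameAt_iff hN _).mpr ⟨𝟙 _, Category.id_comp _⟩

include hN in
theorem exists_e : ∃ e' : N.toScheme ⟶ PS A N, e' ≫ incl hN = (restr G (gN D N)).e := by
  rw [← sameAt_iff]
  let T₀ : Over S := Over.mk (N.ι ≫ D.V.hom)
  let a : T₀ ⟶ D.V := Over.homMk N.ι rfl
  refine sameAt_intro (T := T₀) _ a a (D.same_refl a) _ ?_ ?_ ?_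
  · rw [mkR_rf]
    exact (Category.assoc _ _ _)
  · rw [mkR_rs_assoc]
    exact Category.id_comp _
  · rw [mkR_rt_assoc]
    exact Category.id_comp _

include hN in
theorem exists_i : ∃ i' : PS A N ⟶ PS A N, i' ≫ incl hN = incl hN ≫ (restr G (gN D N)).i := by
  rw [← sameAt_iff]
  refine sameAt_intro (T := toT (incl hN)) _ _ _ (D.same_symm (sameAt_incl hN)) _ ?_ ?_ ?_
  · show (incl hN ≫ _) ≫ rf G _ = (incl hN ≫ rf G _) ≫ G.i
    rw [Category.assoc, mkR_rf, Category.assoc]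
  · show (incl hN ≫ _) ≫ rs G _ ≫ N.ι = incl hN ≫ rt G _ ≫ N.ι
    rw [Category.assoc, mkR_rs_assoc]
  · show (incl hN ≫ _) ≫ rt G _ ≫ N.ι = incl hN ≫ rs G _ ≫ N.ι
    rw [Category.assoc, mkR_rt_assoc]

theorem exists_c :
    ∃ c' : pullback (incl hN ≫ rs G (gN D N)) (incl hN ≫ rt G (gN D N)) ⟶ PS A N,
      c' ≫ incl hN = pullback.lift
        (pullback.fst (incl hN ≫ rs G (gN D N)) (incl hN ≫ rt G (gN D N)) ≫ incl hN)
        (pullback.snd (incl hN ≫ rs G (gN D N)) (incl hN ≫ rt G (gN D N)) ≫ incl hN)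
        (by rw [Category.assoc, Category.assoc, pullback.condition]) ≫ rc G (gN D N) := by
  let P₂ := pullback (incl hN ≫ rs G (gN D N)) (incl hN ≫ rt G (gN D N))
  let r₁ : P₂ ⟶ RR G (gN D N) := pullback.fst _ _ ≫ incl hN
  let r₂ : P₂ ⟶ RR G (gN D N) := pullback.snd _ _ ≫ incl hN
  have h12 : r₁ ≫ rs G (gN D N) = r₂ ≫ rt G (gN D N) := by
    simp only [r₁, r₂, Category.assoc]; exact pullback.condition
  rw [← sameAt_iff]
  have h1 : SameAt r₁ := (sameAt_iff hN r₁).mpr ⟨_, rfl⟩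
  have h2 : SameAt r₂ := (sameAt_iff hN r₂).mpr ⟨_, rfl⟩
  let d : toT r₂ ⟶ toT r₁ := Over.homMk (𝟙 P₂) (by
    show 𝟙 P₂ ≫ r₁ ≫ rf G _ ≫ G.pR = r₂ ≫ rf G _ ≫ G.pR
    conv_rhs => rw [← G.t_over, rf_t_assoc, ← reassoc_of% h12]
    rw [Category.id_comp, ← G.s_over, rf_s_assoc])
  have h1' := D.same_comp d h1
  have hb : d ≫ srcT r₁ = tgtT r₂ := Over.OverMorphism.ext
    ((Category.id_comp _).trans (show r₁ ≫ rs G (gN D N) ≫ N.ι = r₂ ≫ rt G (gN D N) ≫ N.ι by
      rw [← Category.assoc, h12, Category.assoc]))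
  rw [hb] at h1'
  refine sameAt_intro (T := toT r₂) _ _ _ (D.same_trans h2 h1') _ ?_ ?_ ?_
  · refine (rc_rf r₁ r₂ h12).trans ?_
    exact GrpdLib.comp_congr G _ (Category.id_comp _).symm rfl
  · exact (Category.assoc _ _ _).symm.trans ((congrArg (· ≫ N.ι) (rc_rs r₁ r₂ h12)).trans (Category.assoc _ _ _))
  · exact (Category.assoc _ _ _).symm.trans (((congrArg (· ≫ N.ι) (rc_rt r₁ r₂ h12)).trans
      (Category.assoc _ _ _)).trans (Category.id_comp _).symm)

theorem finite_src [Flat G.s] [LocallyOfFinitePresentation G.s] :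
    IsFinite (incl hN ≫ rs G (gN D N)) ∧ Flat (incl hN ≫ rs G (gN D N)) ∧
      LocallyOfFinitePresentation (incl hN ≫ rs G (gN D N)) := by
  haveI := A.open_pW
  rw [incl, mkR_rs, show (psrc : PS A N ⟶ _) = (A.pW.left ∣_ (D.p.left ⁻¹ᵁ N)) ≫ (D.p.left ∣_ N) from
    morphismRestrict_comp A.pW.left D.p.left N]
  haveI : IsIso (A.pW.left ∣_ (D.p.left ⁻¹ᵁ N)) := by
    haveI : IsOpenImmersion (A.pW.left ∣_ (D.p.left ⁻¹ᵁ N)) :=
      IsZariskiLocalAtTarget.restrict (P := @IsOpenImmersion) ‹_› _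
    refine (isIso_iff_isOpenImmersion_and_surjective _).mpr ⟨inferInstance, ⟨fun w => ?_⟩⟩
    obtain ⟨τ, hτ⟩ := hN.lift w.1 w.2
    exact ⟨⟨τ, show A.pW.left.base τ ∈ D.p.left ⁻¹ᵁ N from hτ ▸ w.2⟩,
      Subtype.ext ((morphismRestrict_base_coe A.pW.left _ _).trans hτ)⟩
  haveI : IsFinite (D.p.left ∣_ N) := IsZariskiLocalAtTarget.restrict (P := @IsFinite) inferInstance _
  haveI : Flat (D.p.left ∣_ N) := IsZariskiLocalAtTarget.restrict (P := @Flat) inferInstance _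
  haveI : LocallyOfFinitePresentation (D.p.left ∣_ N) :=
    IsZariskiLocalAtTarget.restrict (P := @LocallyOfFinitePresentation) inferInstance _
  exact ⟨inferInstance, inferInstance, inferInstance⟩

theorem finite_tgt [Flat G.s] [LocallyOfFinitePresentation G.s] :
    IsFinite (incl hN ≫ rt G (gN D N)) := by
  obtain ⟨i', hi⟩ := exists_i hN
  haveI := mono_incl hN
  haveI := (finite_src hN).1
  have hii : i' ≫ i' = 𝟙 _ := by
    rw [← cancel_mono (incl hN), Category.assoc, hi, reassoc_of% hi, Category.id_comp,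
      GrpdLib.i_i (restr G (gN D N))]
    exact Category.comp_id _
  haveI : IsIso i' := ⟨i', hii, hii⟩
  have : incl hN ≫ rt G (gN D N) = i' ≫ incl hN ≫ rs G (gN D N) := by
    rw [reassoc_of% hi, (restr G (gN D N)).i_s]
  rw [this]
  infer_instance

variable {u : G.U} {J : Set G.R}

/-- A groupoid scheme splits over an etale neighbourhood along a stable finite set of quasi-finite arrows. -/
theorem exists_split [IsAffine G.U] [Flat G.s] [LocallyOfFinitePresentation G.s] [IsSeparated G.s]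
    (hJ : Stab G u J) :
    ∃ (G' : Grpd.GroupoidScheme S) (φ : Grpd.GroupoidScheme.Hom G' G) (u' : ↥G'.U),
      IsAffine G'.U ∧ Etale φ.fU ∧ φ.fU u' = u ∧ IsIso (φ.fU.residueFieldMap u') ∧
      IsPullback φ.fR G'.j G.j
        (pullback.map G'.pU G'.pU G.pU G.pU φ.fU φ.fU (𝟙 S)
          ((Category.comp_id _).trans φ.fU_over.symm) ((Category.comp_id _).trans φ.fU_over.symm)) ∧
      ∃ (P : Scheme.{u}) (ιP : P ⟶ G'.R), IsOpenImmersion ιP ∧
        (∃ eP : G'.U ⟶ P, eP ≫ ιP = G'.e) ∧ (∃ iP : P ⟶ P, iP ≫ ιP = ιP ≫ G'.i) ∧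
        (∃ cP : pullback (ιP ≫ G'.s) (ιP ≫ G'.t) ⟶ P,
          cP ≫ ιP = pullback.map (ιP ≫ G'.s) (ιP ≫ G'.t) G'.s G'.t ιP ιP (𝟙 G'.U)
            (Category.comp_id _) (Category.comp_id _) ≫ G'.c) ∧
        IsFinite (ιP ≫ G'.s) ∧ IsFinite (ιP ≫ G'.t) ∧
        ∀ r' : ↥G'.R, G'.s r' = u' → G'.t r' = u' → φ.fR r' ∈ J → ∃ p : ↥P, ιP p = r' := by
  obtain ⟨D₀⟩ := exists_nbhd hJ
  obtain ⟨D, hinj⟩ := exists_refinement D₀
  haveI := D.etale_g
  obtain ⟨A⟩ := exists_arrows D.toFam hinj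
  obtain ⟨N₀, hv₀, hN₀, horb⟩ := exists_good D hJ A
  haveI : IsOpenImmersion A.pW.left := A.open_pW
  -- an affine invariant neighbourhood
  obtain ⟨e₀, he₀⟩ := exists_e hN₀
  obtain ⟨i₀, hi₀⟩ := exists_i hN₀
  obtain ⟨c₀, hc₀⟩ := exists_c hN₀
  haveI := mono_incl hN₀
  let H := GrpdLib.sub (restr G (gN D.toFam N₀)) (𝟙 _) (incl hN₀)
    (incl hN₀ ≫ rs G (gN D.toFam N₀)) (incl hN₀ ≫ rt G (gN D.toFam N₀))
    (Category.comp_id _) (Category.comp_id _) e₀ (he₀.trans (Category.id_comp _).symm) i₀ hi₀ c₀ hc₀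
  obtain ⟨f₁, f₂, f₃⟩ := finite_src hN₀
  haveI : IsFinite H.s := f₁
  haveI : Flat H.s := f₂
  haveI : LocallyOfFinitePresentation H.s := f₃
  let v₀ : N₀.toScheme := ⟨D.v, hv₀⟩
  have horb' : ∀ y, GrpdLib.Rel H v₀ y → y = v₀ := by
    rintro y ⟨τ, hs, ht⟩
    have hs' : psrc τ = v₀ := by
      have h := congrArg (fun f => f.base τ) (incl_rs hN₀)
      exact h.symm.trans hs
    have ht' : ptgt hN₀ τ = y := by
      have h := congrArg (fun f => f.base τ) (incl_rt hN₀)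
      exact h.symm.trans ht
    refine N₀.ι.isOpenEmbedding.injective ?_
    rw [← ht']
    show (ptgt hN₀ ≫ N₀.ι).base τ = D.v
    rw [ptgt_ι]
    refine horb _ ?_
    show ((A.pW ≫ D.p).left).base (((A.pW ≫ D.p).left ⁻¹ᵁ N₀).ι.base τ) = D.v
    refine (congrArg (fun f => f.base τ) (morphismRestrict_ι (A.pW ≫ D.p).left N₀)).symm.trans ?_
    exact congrArg N₀.ι.base hs'
  obtain ⟨_, ⟨V, hV, rfl⟩, hvV, -⟩ := N₀.toScheme.isBasis_affineOpens.exists_subset_of_mem_open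
    (Set.mem_univ v₀) isOpen_univ
  obtain ⟨W, hW, hvW, -, hinv⟩ := GrpdLib.exists_invariant_affine H v₀ ⊤ rfl trivial V hV
    (fun y hy => horb' y hy ▸ hvV)
  let N : D.V.left.Opens := N₀.ι ''ᵁ W
  have hNN₀ : N ≤ N₀ := by
    rintro _ ⟨x, -, rfl⟩
    exact (show N₀.toScheme from x).2
  have hN : A.Good N := by
    refine hN₀.mono hNN₀ fun τ hτ => ?_
    let τ₀ : PS A N₀ := ⟨τ, hNN₀ hτ⟩
    obtain ⟨x, hx, hxτ⟩ := hτ
    have hsx : psrc τ₀ = x := N₀.ι.isOpenEmbedding.injective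
      ((congrArg (fun f => f.base τ₀) (morphismRestrict_ι (A.pW ≫ D.p).left N₀)).trans hxτ.symm)
    have hs : H.s τ₀ ∈ W := by
      rw [show H.s τ₀ = psrc τ₀ from congrArg (fun f => f.base τ₀) (incl_rs hN₀), hsx]
      exact hx
    have ht : H.t τ₀ ∈ W := hinv.le hs
    refine ⟨_, ht, ?_⟩
    exact (congrArg (fun f => N₀.ι.base (f.base τ₀)) (incl_rt hN₀)).trans
      (congrArg (fun f => f.base τ₀) (ptgt_ι hN₀))
  haveI hNaff : IsAffine N.toScheme := hW.image_of_isOpenImmersion N₀.ι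
  have hvN : D.v ∈ N := ⟨v₀, hvW, rfl⟩
  let g' : N.toScheme ⟶ G.U := gN D.toFam N
  let u' : N.toScheme := ⟨D.v, hvN⟩
  have hr : Set.range D.σ ⊆ Set.range N.ι := by
    rintro _ ⟨p, rfl⟩
    rw [Scheme.Opens.range_ι, Subsingleton.elim p (IsLocalRing.closedPoint _), D.σv]
    exact hvN
  let σ' := IsOpenImmersion.lift N.ι D.σ hr
  have hσ' : σ' ≫ g' = G.U.fromSpecResidueField u := by
    show σ' ≫ N.ι ≫ D.g.left = _
    rw [IsOpenImmersion.lift_fac_assoc, D.hσ]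
  have hσu : σ'.base (IsLocalRing.closedPoint _) = u' := N.ι.isOpenEmbedding.injective
    ((congrArg (fun f => f.base (IsLocalRing.closedPoint _)) (IsOpenImmersion.lift_fac N.ι D.σ hr)).trans D.σv)
  obtain ⟨h1, h2⟩ := EtLocLib.bijective_of_section g' σ' hσ'
  rw [hσu] at h1 h2
  haveI := isOpenImmersion_incl hN
  refine ⟨restr G g', restrHom G g', u', hNaff, inferInstanceAs (Etale (N.ι ≫ D.g.left)), h1,
    (ConcreteCategory.isIso_iff_bijective _).mpr h2, isPullback_restrHom G g', PS A N, incl hN,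
    inferInstance, exists_e hN, exists_i hN, exists_c hN, (finite_src hN).1, finite_tgt hN,
    fun r' hs ht hJr => ?_⟩
  have hsame : SameAt ((RR G g').fromSpecResidueField r') := by
    let x := (RR G g').fromSpecResidueField r'
    refine D.same_of_points hJ (rhoT x) (srcT x) (tgtT x) ?_ ?_ (fun y => ?_) (fun y => ?_) fun y => ?_
    · exact Over.OverMorphism.ext ((Category.assoc _ _ _).trans
        ((congrArg (x ≫ ·) (rf_s G g')).trans
          (by show x ≫ rs G g' ≫ N.ι ≫ D.g.left = (x ≫ rs G g' ≫ N.ι) ≫ D.g.left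
              simp only [Category.assoc])))
    · exact Over.OverMorphism.ext ((Category.assoc _ _ _).trans
        ((congrArg (x ≫ ·) (rf_t G g')).trans
          (by show x ≫ rt G g' ≫ N.ι ≫ D.g.left = (x ≫ rt G g' ≫ N.ι) ≫ D.g.left
              simp only [Category.assoc])))
    · show N.ι.base ((rs G g').base (x.base y)) = D.v
      rw [Scheme.fromSpecResidueField_apply]
      exact congrArg N.ι.base hs
    · show N.ι.base ((rt G g').base (x.base y)) = D.v
      rw [Scheme.fromSpecResidueField_apply]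
      exact congrArg N.ι.base ht
    · show (rf G g').base (x.base y) ∈ J
      rw [Scheme.fromSpecResidueField_apply]
      exact hJr
  obtain ⟨l, hl⟩ := (sameAt_iff hN _).mp hsame
  refine ⟨l.base (IsLocalRing.closedPoint _), ?_⟩
  exact (congrArg (fun f => f.base (IsLocalRing.closedPoint _)) hl).trans (Scheme.fromSpecResidueField_apply _ _)

end Groth.Agent.Split
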