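import Mathlib
import Groth.Agent.SplitLib.Main

/-!
# The stable sets of arrows at a point
-/

set_option autoImplicit false
set_option backward.isDefEq.respectTransparency false

universe u

open CategoryTheory CategoryTheory.Limits AlgebraicGeometry

noncomputable section

namespace Groth.Agent.Split

variable {S : Scheme.{u}} {G : Grpd.GroupoidScheme S}

/-- A point of `T` as an object over `S`. -/
def ptObj {T : Over S} (x : T.left) : Over S := Over.mk (T.left.fromSpecResidueField x ≫ T.hom)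

/-- Its inclusion. -/
def ptMap {T : Over S} (x : T.left) : ptObj x ⟶ T := Over.homMk (T.left.fromSpecResidueField x) rfl

theorem ptMap_apply {T : Over S} (x : T.left) {X : Over S} (f : T ⟶ X) (y : (ptObj x).left) :
    (ptMap x ≫ f).left.base y = f.left.base x :=
  congrArg f.left.base (Scheme.fromSpecResidueField_apply _ y)

theorem s_cmp_apply {T : Over S} (ρ r : T ⟶ oR G) (h : r ≫ os G = ρ ≫ ot G) (x : T.left) :
    G.s ((cmp r ρ h).left.base x) = G.s (ρ.left.base x) :=
  congrArg (fun f => f.left.base x) (cmp_os r ρ h)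

theorem t_cmp_apply {T : Over S} (ρ r : T ⟶ oR G) (h : r ≫ os G = ρ ≫ ot G) (x : T.left) :
    G.t ((cmp r ρ h).left.base x) = G.t (r.left.base x) :=
  congrArg (fun f => f.left.base x) (cmp_ot r ρ h)

theorem s_eq_t_apply {T : Over S} (ρ r : T ⟶ oR G) (h : r ≫ os G = ρ ≫ ot G) (x : T.left) :
    G.s (r.left.base x) = G.t (ρ.left.base x) :=
  congrArg (fun f => f.left.base x) h

theorem stab_all (u : G.U) (hfin : Set.Finite {r : ↥G.R | G.s r = u ∧ G.t r = u})
    (hqf : ∀ r : ↥G.R, G.s r = u → G.t r = u → Dual3.QuasiFiniteAt G.s r) :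
    Stab G u {r : ↥G.R | G.s r = u ∧ G.t r = u} where
  finite := hfin
  qf := fun r hr => hqf r hr.1 hr.2
  src := fun r hr => hr.1
  tgt := fun r hr => hr.2
  one := ⟨congrArg (fun f => f.base u) G.e_s, congrArg (fun f => f.base u) G.e_t⟩
  transl := fun T ρ r h x hρ => by
    have h1 := s_cmp_apply ρ r h x
    have h2 := t_cmp_apply ρ r h x
    have h3 := s_eq_t_apply ρ r h x
    show (_ ∧ _) ↔ (_ ∧ _)
    exact ⟨fun hr => ⟨h1.trans hρ.1, h2.trans hr.2⟩, fun hc => ⟨h3.trans hρ.2, h2.symm.trans hc.2⟩⟩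

theorem fromSpec_e (u : G.U) :
    G.R.fromSpecResidueField (G.e u) = G.R.fromSpecResidueField (G.e u) ≫ G.s ≫ G.e := by
  have h := eq_at_point (𝟙 G.R) (G.s ≫ G.e) G.e u (by
    rw [← Category.assoc G.e G.s G.e, G.e_s, Category.id_comp, Category.comp_id])
  rwa [Category.comp_id] at h

theorem stab_one (u : G.U) (hqf : Dual3.QuasiFiniteAt G.s (G.e u)) : Stab G u {G.e u} where
  finite := Set.finite_singleton _
  qf := fun r hr => by rw [Set.mem_singleton_iff.mp hr]; exact hqf
  src := fun r hr => by rw [Set.mem_singleton_iff.mp hr]; exact congrArg (fun f => f.base u) G.e_s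
  tgt := fun r hr => by rw [Set.mem_singleton_iff.mp hr]; exact congrArg (fun f => f.base u) G.e_t
  one := rfl
  transl := fun T ρ r h x hρ => by
    have hρ' : ρ.left.base x = G.e u := hρ
    have e1 : ptMap x ≫ ρ = ((ptMap x ≫ ρ) ≫ os G) ≫ oe G := Over.OverMorphism.ext (by
      show T.left.fromSpecResidueField x ≫ ρ.left = ((T.left.fromSpecResidueField x ≫ ρ.left) ≫ G.s) ≫ G.e
      rw [← Scheme.Hom.SpecMap_residueFieldMap_fromSpecResidueField, Category.assoc, Category.assoc]
      refine congrArg (_ ≫ ·) ?_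
      rw [hρ']
      exact fromSpec_e u)
    have hx : (ptMap x ≫ r) ≫ os G = (ptMap x ≫ ρ) ≫ os G := by
      rw [Category.assoc, h, ← Category.assoc]
      conv_lhs => rw [e1, Category.assoc _ (oe G) (ot G), oe_ot, Category.comp_id]
    have hc : ptMap x ≫ cmp r ρ h = ptMap x ≫ r :=
      (comp_cmp _ r ρ h).trans ((cmp_congr rfl e1 _).trans (cmp_id_right _ _ hx))
    have := congrArg (fun f => f.left.base (IsLocalRing.closedPoint _)) hc
    have he : (cmp r ρ h).left.base x = r.left.base x :=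
      ((ptMap_apply x (cmp r ρ h) _).symm.trans this).trans (ptMap_apply x r _)
    show r.left.base x = G.e u ↔ (cmp r ρ h).left.base x = G.e u
    rw [he]

variable (G)

/-- Arrows in the stabilizer over `u`. -/
def stabSet (u : G.U) : Set G.R :=
  {r | G.s r = u ∧ G.R.fromSpecResidueField r ≫ G.t = G.R.fromSpecResidueField r ≫ G.s}

variable {G}

theorem mem_stabSet_iff (u : G.U) (r : G.R) :
    r ∈ stabSet G u ↔ ∃ g : G.stabilizer, G.stabilizerToU g = u ∧
      (pullback.fst G.j G.diag : G.stabilizer ⟶ G.R) g = r := by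
  constructor
  · rintro ⟨hs, ht⟩
    let x := G.R.fromSpecResidueField r
    let l : Spec (G.R.residueField r) ⟶ G.stabilizer := pullback.lift x (x ≫ G.s) (by
      apply pullback.hom_ext
      · simp only [Grpd.GroupoidScheme.j, Grpd.GroupoidScheme.diag, Category.assoc, pullback.lift_fst,
          Category.comp_id]
        exact ht
      · simp only [Grpd.GroupoidScheme.j, Grpd.GroupoidScheme.diag, Category.assoc, pullback.lift_snd,
          Category.comp_id])
    refine ⟨l.base (IsLocalRing.closedPoint _), ?_, ?_⟩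
    · refine (congrArg (fun f => f.base (IsLocalRing.closedPoint _))
        (pullback.lift_snd x (x ≫ G.s) _ : l ≫ G.stabilizerToU = x ≫ G.s)).trans ?_
      show G.s (x.base (IsLocalRing.closedPoint _)) = u
      rw [Scheme.fromSpecResidueField_apply]
      exact hs
    · refine (congrArg (fun f => f.base (IsLocalRing.closedPoint _))
        (pullback.lift_fst x (x ≫ G.s) _ : l ≫ pullback.fst G.j G.diag = x)).trans ?_
      exact Scheme.fromSpecResidueField_apply _ _
  · rintro ⟨g, hg, rfl⟩
    have h1 : (pullback.fst G.j G.diag ≫ G.s : G.stabilizer ⟶ G.U) = G.stabilizerToU := by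
      have := congrArg (· ≫ pullback.snd _ _) (pullback.condition (f := G.j) (g := G.diag))
      simpa [Grpd.GroupoidScheme.j, Grpd.GroupoidScheme.diag, Grpd.GroupoidScheme.stabilizerToU] using this
    have h2 : (pullback.fst G.j G.diag ≫ G.t : G.stabilizer ⟶ G.U) = G.stabilizerToU := by
      have := congrArg (· ≫ pullback.fst _ _) (pullback.condition (f := G.j) (g := G.diag))
      simpa [Grpd.GroupoidScheme.j, Grpd.GroupoidScheme.diag, Grpd.GroupoidScheme.stabilizerToU] using this
    exact ⟨(congrArg (fun f => f.base g) h1).trans hg,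
      eq_at_point G.t G.s (pullback.fst G.j G.diag : G.stabilizer ⟶ G.R) g
        (congrArg (G.stabilizer.fromSpecResidueField g ≫ ·) (h2.trans h1.symm))⟩

theorem mem_stabSet_of_eq {T : Over S} (u : G.U) (r : T ⟶ oR G) (x : T.left) (hs : G.s (r.left.base x) = u)
    (h : ptMap x ≫ r ≫ ot G = ptMap x ≫ r ≫ os G) : r.left.base x ∈ stabSet G u :=
  ⟨hs, eq_at_point G.t G.s r.left x (congrArg Over.Hom.left h)⟩

theorem eq_of_mem_stabSet {T : Over S} (u : G.U) (r : T ⟶ oR G) (x : T.left)
    (h : r.left.base x ∈ stabSet G u) : ptMap x ≫ r ≫ ot G = ptMap x ≫ r ≫ os G := by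
  apply Over.OverMorphism.ext
  show T.left.fromSpecResidueField x ≫ r.left ≫ G.t = T.left.fromSpecResidueField x ≫ r.left ≫ G.s
  simp only [← Scheme.Hom.SpecMap_residueFieldMap_fromSpecResidueField_assoc]
  exact congrArg (_ ≫ ·) h.2

theorem tgt_stabSet (u : G.U) (r : G.R) (h : r ∈ stabSet G u) : G.t r = u := by
  have := congrArg (fun f => f.base (IsLocalRing.closedPoint (G.R.residueField r))) h.2
  have e : ∀ f : G.R ⟶ G.U, (G.R.fromSpecResidueField r ≫ f).base (IsLocalRing.closedPoint _) = f r := fun f =>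
    congrArg f.base (Scheme.fromSpecResidueField_apply _ _)
  exact ((e G.t).symm.trans (this.trans (e G.s))).trans h.1

theorem stab_stabSet (u : G.U) (hfin : Set.Finite {g : ↥G.stabilizer | G.stabilizerToU g = u})
    (hqf : ∀ g : ↥G.stabilizer, G.stabilizerToU g = u →
      Dual3.QuasiFiniteAt G.s ((pullback.fst G.j G.diag : G.stabilizer ⟶ G.R) g)) :
    Stab G u (stabSet G u) where
  finite := (hfin.image _).subset fun r hr => by
    obtain ⟨g, hg, hgr⟩ := (mem_stabSet_iff u r).mp hr
    exact ⟨g, hg, hgr⟩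
  qf := fun r hr => by
    obtain ⟨g, hg, rfl⟩ := (mem_stabSet_iff u r).mp hr
    exact hqf g hg
  src := fun r hr => hr.1
  tgt := tgt_stabSet u
  one := ⟨congrArg (fun f => f.base u) G.e_s, eq_at_point G.t G.s G.e u (by rw [G.e_s, G.e_t])⟩
  transl := fun T ρ r h x hρ => by
    have hc : ptMap x ≫ cmp r ρ h ≫ os G = ptMap x ≫ r ≫ os G := by
      rw [cmp_os, h]
      exact (eq_of_mem_stabSet u ρ x hρ).symm
    have ht : ptMap x ≫ cmp r ρ h ≫ ot G = ptMap x ≫ r ≫ ot G := by rw [cmp_ot]
    refine ⟨fun hr => mem_stabSet_of_eq u _ x ((s_cmp_apply ρ r h x).trans hρ.1) ?_,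
      fun hr => mem_stabSet_of_eq u r x ((s_eq_t_apply ρ r h x).trans (tgt_stabSet u _ hρ)) ?_⟩
    · rw [hc, ht]; exact eq_of_mem_stabSet u r x hr
    · rw [← hc, ← ht]; exact eq_of_mem_stabSet u _ x hr

/-- An arrow over a point of the stabilizer of the restriction lies in the stabilizer. -/
theorem hom_stabSet {G' : Grpd.GroupoidScheme S} (φ : Grpd.GroupoidScheme.Hom G' G) (u' : G'.U)
    (g' : ↥G'.stabilizer) (hg : G'.stabilizerToU g' = u') :
    G'.s ((pullback.fst G'.j G'.diag : G'.stabilizer ⟶ G'.R) g') = u' ∧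
    G'.t ((pullback.fst G'.j G'.diag : G'.stabilizer ⟶ G'.R) g') = u' ∧
    φ.fR ((pullback.fst G'.j G'.diag : G'.stabilizer ⟶ G'.R) g') ∈ stabSet G (φ.fU u') := by
  have hm := (mem_stabSet_iff (G := G') u' _).mpr ⟨g', hg, rfl⟩
  set r' := (pullback.fst G'.j G'.diag : G'.stabilizer ⟶ G'.R) g'
  refine ⟨hm.1, tgt_stabSet u' r' hm, ?_, eq_at_point G.t G.s φ.fR r' ?_⟩
  · exact (congrArg (fun f => f.base r') φ.comm_s).trans (congrArg φ.fU.base hm.1)
  · rw [φ.comm_s, φ.comm_t, ← Category.assoc, hm.2, Category.assoc]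

end Groth.Agent.Split
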